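import Cfsg.Agent.H529.FSolv_m3
import Cfsg.Agent.H531.ClassIndex
import Cfsg.Agent.H531.TwoPrimes
import Cfsg.Agent.H551.Compl
import Mathlib
import Cfsg.Agent.H531.LemX_m3
import Cfsg.Agent.H478.RadTools_m3
import Cfsg.Agent.FastGrp
import Cfsg.Agent.Prune
set_option linter.all false

section
prune_inst 0x7ff0fef98fb8bddfffff7ffff7fccffdbdfdfffff6dffdfbffe4fbffffff6b27efe5fbaf6ffcdaffdff6e13c14f87b13fdffceffe36bdd7ffffd5ff45ffbff9fedffbf8d71f6bc3e1ffe6ffffbf177ee7f3fffffffffffffffffffffffffffffffbfffffffff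

-- part: H544/CS/Defs
section
set_option linter.all false

/-!
# The prime graph on class sizes: definitions (S4308)

* `RF p x` (helper532) : `p` does not divide the size of the class of `x`;
* `TA p G` : `G` has a normal `p`-complement with abelian quotient (`N(P) = C(P)`);
* `DD p G` : the subgroup generated by all commutators `[y, g]`, `y` a `p`-element (`[G, P]` for `TA p G`);
* `GL1 V` : `G` acts on the abelian subgroup `V` like a group of semilinear maps of a field of order `|V|`.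
-/

set_option autoImplicit false

namespace Cfsg.Agent.H544.CS

open Subgroup Cfsg.Agent.H532.Thr

universe u

/-- `G` has a normal `p`-complement, with abelian quotient -/
def TA (p : ℕ) (G : Type*) [Group G] : Prop :=
  ∃ K : Subgroup G, K.Normal ∧ ¬ p ∣ Nat.card K ∧ (∃ n, K.index = p ^ n) ∧ ∀ x y : G, x * y * x⁻¹ * y⁻¹ ∈ K

/-- `p`-elements -/
def PEl (p : ℕ) {G : Type*} [Group G] (y : G) : Prop := ∃ k : ℕ, y ^ p ^ k = 1

/-- the subgroup generated by the commutators of `p`-elements with arbitrary elements -/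
def DD (p : ℕ) (G : Type*) [Group G] : Subgroup G :=
  closure {x | ∃ y g : G, PEl p y ∧ x = y * g * y⁻¹ * g⁻¹}

/-- minimal normal subgroup -/
def MinN {G : Type*} [Group G] (V : Subgroup G) : Prop :=
  V.Normal ∧ V ≠ ⊥ ∧ ∀ M : Subgroup G, M.Normal → M ≤ V → M = ⊥ ∨ M = V

/-- elements of `V` commute -/
def Ab {G : Type*} [Group G] (V : Subgroup G) : Prop := ∀ x ∈ V, ∀ y ∈ V, x * y = y * x

/-- the group acts on the abelian normal subgroup `V` like a group of semilinear maps of a field of order `|V|` -/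
def GL1 {G : Type*} [Group G] (V : Subgroup G) : Prop :=
  ∃ Y : Subgroup G, Y.Normal ∧ centralizer (V : Set G) ≤ Y ∧
    (∃ c ∈ Y, ∀ y ∈ Y, ∃ k : ℤ, y * (c ^ k)⁻¹ ∈ centralizer (V : Set G)) ∧
    (∃ g : G, ∀ x : G, ∃ k : ℤ, x * (g ^ k)⁻¹ ∈ Y) ∧
    ∀ y ∈ Y, ∀ v ∈ V, v ≠ 1 → y * v = v * y → y ∈ centralizer (V : Set G)

end Cfsg.Agent.H544.CS
end

-- part: H544/CS/Basic
section
prune_inst 0xd0106304502200000000008011002400000000920020000190000000000c8101200509003000020011282a20000c0020010000c90000000020000a0040040120000220808008000000000000a881180c00000000000000000000000000000004000000000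
set_option linter.all false
open scoped Cfsg.Agent.FastGrp

/-!
# Basic facts on `TA p G` and `DD p G`
-/

set_option autoImplicit false

namespace Cfsg.Agent.H544.CS

open Subgroup Cfsg.Agent.H532.Thr
open scoped Pointwise

universe u v

section PEl

variable {G : Type u} [Group G] {H : Type v} [Group H] {p q : ℕ}

theorem PEl.one : PEl p (1 : G) := ⟨0, one_pow _⟩

theorem PEl.conj {y : G} (h : PEl p y) (g : G) : PEl p (g * y * g⁻¹) := by
  obtain ⟨k, hk⟩ := h
  exact ⟨k, by rw [conj_pow, hk]; group⟩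

theorem PEl.inv {y : G} (h : PEl p y) : PEl p y⁻¹ := by
  obtain ⟨k, hk⟩ := h
  exact ⟨k, by rw [inv_pow, hk, inv_one]⟩

theorem PEl.map {y : G} (h : PEl p y) (f : G →* H) : PEl p (f y) := by
  obtain ⟨k, hk⟩ := h
  exact ⟨k, by rw [← map_pow, hk, map_one]⟩

theorem PEl.of_mem {P : Sylow p G} {y : G} (hy : y ∈ P) : PEl p y := by
  obtain ⟨k, hk⟩ := P.isPGroup' ⟨y, hy⟩
  exact ⟨k, congrArg Subtype.val hk⟩

theorem PEl.isPGroup {y : G} (h : PEl p y) : IsPGroup p (zpowers y) := by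
  obtain ⟨k, hk⟩ := h
  rintro ⟨_, i, rfl⟩
  refine ⟨k, Subtype.ext ?_⟩
  show (y ^ i) ^ p ^ k = 1
  rw [← zpow_natCast, ← zpow_mul, mul_comm, zpow_mul, zpow_natCast, hk, one_zpow]

theorem PEl.exists_sylow {y : G} (h : PEl p y) : ∃ P : Sylow p G, y ∈ P := by
  obtain ⟨P, hP⟩ := h.isPGroup.exists_le_sylow
  exact ⟨P, hP (mem_zpowers y)⟩

theorem PEl.lift [Finite G] (hp : p.Prime) {f : G →* H} {x : G} (h : PEl p (f x)) :
    ∃ n : ℕ, PEl p (x ^ n) ∧ f (x ^ n) = f x := by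
  obtain ⟨k, hk⟩ := h
  obtain ⟨a, m, hm, hn⟩ := Nat.exists_eq_pow_mul_and_not_dvd (orderOf_pos x).ne' p hp.ne_one
  have hcop : (p ^ k).Coprime m := Nat.Coprime.pow_left k ((Nat.Prime.coprime_iff_not_dvd hp).2 hm)
  obtain ⟨n, h1, h2⟩ := Nat.chineseRemainder hcop 1 0
  refine ⟨n, ⟨a, ?_⟩, ?_⟩
  · obtain ⟨c, rfl⟩ := (Nat.modEq_zero_iff_dvd).1 h2
    rw [← pow_mul]
    have : m * c * p ^ a = orderOf x * c := by rw [hn]; ring
    rw [this, pow_mul, pow_orderOf_eq_one, one_pow]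
  · rw [map_pow]
    have h3 : f x ^ n = f x ^ 1 := by
      rw [pow_eq_pow_iff_modEq]
      exact h1.of_dvd (orderOf_dvd_of_pow_eq_one hk)
    rw [h3, pow_one]

/-- `p`-part and `p'`-part -/
theorem exists_parts [Finite G] (hp : p.Prime) (x : G) :
    ∃ m n : ℕ, x = x ^ m * x ^ n ∧ PEl p (x ^ m) ∧ ¬ p ∣ orderOf (x ^ n) := by
  obtain ⟨a, m, hm, hn⟩ := Nat.exists_eq_pow_mul_and_not_dvd (orderOf_pos x).ne' p hp.ne_one
  have hcop : (p ^ a).Coprime m := Nat.Coprime.pow_left a ((Nat.Prime.coprime_iff_not_dvd hp).2 hm)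
  obtain ⟨i, h1, h2⟩ := Nat.chineseRemainder hcop 1 0
  obtain ⟨j, h3, h4⟩ := Nat.chineseRemainder hcop 0 1
  refine ⟨i, j, ?_, ⟨a, ?_⟩, ?_⟩
  · rw [← pow_add]
    have h5 : i + j ≡ 1 [MOD orderOf x] := by
      rw [hn]
      refine (Nat.modEq_and_modEq_iff_modEq_mul hcop).1 ⟨?_, ?_⟩
      · exact (h1.add h3)
      · exact (h2.add h4)
    have h6 := pow_eq_pow_iff_modEq.2 h5
    rw [h6, pow_one]
  · obtain ⟨c, rfl⟩ := (Nat.modEq_zero_iff_dvd).1 h2
    rw [← pow_mul]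
    have : m * c * p ^ a = orderOf x * c := by rw [hn]; ring
    rw [this, pow_mul, pow_orderOf_eq_one, one_pow]
  · intro h
    apply hm
    refine h.trans ?_
    apply orderOf_dvd_of_pow_eq_one
    obtain ⟨c, rfl⟩ := (Nat.modEq_zero_iff_dvd).1 h3
    rw [← pow_mul]
    have : p ^ a * c * m = orderOf x * c := by rw [hn]; ring
    rw [this, pow_mul, pow_orderOf_eq_one, one_pow]

theorem mem_smul_sylow {P : Sylow p G} {g y : G} : y ∈ g • P ↔ g⁻¹ * y * g ∈ P := by
  have h1 : y ∈ g • P ↔ y ∈ MulAut.conj g • (P : Subgroup G) := Iff.rfl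
  rw [h1, Subgroup.mem_pointwise_smul_iff_inv_smul_mem]
  have h2 : (MulAut.conj g)⁻¹ • y = g⁻¹ * y * g := by
    simp [MulAut.smul_def, MulAut.conj_inv_apply]
  rw [h2]
  exact Iff.rfl

end PEl

/-! ### `DD` -/

section DD

variable {G : Type u} [Group G] {H : Type v} [Group H] {p q : ℕ}

theorem mem_DD {y : G} (hy : PEl p y) (g : G) : y * g * y⁻¹ * g⁻¹ ∈ DD p G := subset_closure ⟨y, g, hy, rfl⟩

theorem DD_le {M : Subgroup G} (h : ∀ y g : G, PEl p y → y * g * y⁻¹ * g⁻¹ ∈ M) : DD p G ≤ M := by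
  rw [DD, closure_le]
  rintro _ ⟨y, g, hy, rfl⟩
  exact h y g hy

instance DD_normal : (DD p G).Normal := by
  constructor
  intro x hx g
  rw [DD] at hx
  induction hx using closure_induction with
  | mem x hx =>
    obtain ⟨y, h, hy, rfl⟩ := hx
    have : g * (y * h * y⁻¹ * h⁻¹) * g⁻¹ = (g * y * g⁻¹) * (g * h * g⁻¹) * (g * y * g⁻¹)⁻¹ * (g * h * g⁻¹)⁻¹ := by
      group
    rw [this]
    exact mem_DD (hy.conj g) _
  | one => rw [mul_one, mul_inv_cancel]; exact one_mem _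
  | mul x y _ _ hx hy =>
    have : g * (x * y) * g⁻¹ = (g * x * g⁻¹) * (g * y * g⁻¹) := by group
    rw [this]
    exact mul_mem hx hy
  | inv x _ hx =>
    have : g * x⁻¹ * g⁻¹ = (g * x * g⁻¹)⁻¹ := by group
    rw [this]
    exact inv_mem hx

theorem map_DD [Finite G] (hp : p.Prime) {f : G →* H} (hf : Function.Surjective f) : (DD p G).map f = DD p H := by
  apply le_antisymm
  · rw [map_le_iff_le_comap]
    refine DD_le fun y g hy => ?_
    rw [mem_comap]
    have : f (y * g * y⁻¹ * g⁻¹) = f y * f g * (f y)⁻¹ * (f g)⁻¹ := by simp only [_root_.map_mul, _root_.map_inv]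
    rw [this]
    exact mem_DD (hy.map f) _
  · refine DD_le fun y g hy => ?_
    obtain ⟨y, rfl⟩ := hf y
    obtain ⟨g, rfl⟩ := hf g
    obtain ⟨n, h1, h2⟩ := hy.lift hp
    refine ⟨y ^ n * g * (y ^ n)⁻¹ * g⁻¹, mem_DD h1 g, ?_⟩
    rw [← h2]
    simp only [_root_.map_mul, _root_.map_pow, _root_.map_inv]

theorem mem_DD_of_map [Finite G] (hp : p.Prime) {f : G →* H} (hf : Function.Surjective f) {x : G}
    (hx : f x ∈ DD p H) : ∃ d ∈ DD p G, f d = f x := by
  rw [← map_DD hp hf] at hx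
  exact hx

end DD

/-! ### `TA` -/

section TA

variable {G : Type u} [Group G] {H : Type v} [Group H] {p q : ℕ}

theorem TA.map (hp : p.Prime) (h : TA p G) {f : G →* H} (hf : Function.Surjective f) : TA p H := by
  obtain ⟨K, hK, h1, ⟨n, h2⟩, h3⟩ := h
  refine ⟨K.map f, hK.map f hf, fun h => h1 (h.trans (card_map_dvd K f)), ?_, ?_⟩
  · have h4 := index_map_dvd K hf
    rw [h2] at h4
    obtain ⟨m, -, hm⟩ := (Nat.dvd_prime_pow hp).1 h4
    exact ⟨m, hm⟩
  · intro x y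
    obtain ⟨x, rfl⟩ := hf x
    obtain ⟨y, rfl⟩ := hf y
    exact ⟨_, h3 x y, by simp only [_root_.map_mul, _root_.map_inv]⟩

theorem TA.quo (hp : p.Prime) (h : TA p G) (N : Subgroup G) [N.Normal] : TA p (G ⧸ N) :=
  h.map hp (QuotientGroup.mk'_surjective N)

theorem TA.sub (hp : p.Prime) (h : TA p G) (S : Subgroup G) : TA p S := by
  obtain ⟨K, hK, h1, ⟨n, h2⟩, h3⟩ := h
  refine ⟨K.subgroupOf S, inferInstance, fun h => h1 (h.trans ?_), ?_, fun x y => ?_⟩
  · have h4 : Nat.card ((K.subgroupOf S).map S.subtype) = Nat.card (K.subgroupOf S) :=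
      card_map_of_injective S.subtype_injective
    rw [← h4]
    exact card_dvd_of_le (by rw [subgroupOf_map_subtype]; exact inf_le_left)
  · have h4 : K.relIndex S ∣ K.index := relIndex_dvd_index_of_normal K S
    rw [h2] at h4
    obtain ⟨m, -, hm⟩ := (Nat.dvd_prime_pow hp).1 h4
    exact ⟨m, hm⟩
  · rw [mem_subgroupOf]
    exact h3 x y

theorem TA.exists_K (h : TA p G) : ∃ K : Subgroup G, K.Normal ∧ ¬ p ∣ Nat.card K ∧ (∃ n, K.index = p ^ n) ∧
    (∀ x y : G, x * y * x⁻¹ * y⁻¹ ∈ K) ∧ DD p G ≤ K := by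
  obtain ⟨K, hK, h1, h2, h3⟩ := h
  exact ⟨K, hK, h1, h2, h3, DD_le fun y g _ => h3 y g⟩

theorem TA.not_dvd (h : TA p G) : ¬ p ∣ Nat.card (DD p G) := by
  obtain ⟨K, _, h1, _, _, h4⟩ := h.exists_K
  exact fun h => h1 (h.trans (card_dvd_of_le h4))

theorem PEl.eq_one_of_mem (hp : p.Prime) {y : G} (hy : PEl p y) {M : Subgroup G} [Finite M]
    (hM : ¬ p ∣ Nat.card M) (h : y ∈ M) : y = 1 := by
  obtain ⟨k, hk⟩ := hy
  have h1 : orderOf y ∣ p ^ k := orderOf_dvd_of_pow_eq_one hk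
  have h2 : orderOf y ∣ Nat.card M := by
    have := _root_.orderOf_dvd_natCard (⟨y, h⟩ : M)
    rwa [← Subgroup.orderOf_coe] at this
  have h3 : (p ^ k).Coprime (Nat.card M) := Nat.Coprime.pow_left k ((Nat.Prime.coprime_iff_not_dvd hp).2 hM)
  exact orderOf_eq_one_iff.1 (Nat.eq_one_of_dvd_coprimes h3 h1 h2)

theorem TA.comm [Finite G] (hp : p.Prime) (h : TA p G) (P : Sylow p G) {x g : G} (hx : x ∈ P)
    (hg : g * x * g⁻¹ ∈ P) : g * x = x * g := by
  obtain ⟨K, hK, h1, h2, h3, h4⟩ := h.exists_K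
  have h5 : g * x * g⁻¹ * x⁻¹ = 1 :=
    PEl.eq_one_of_mem hp (PEl.of_mem (P := P) (mul_mem hg (inv_mem hx))) h1 (h3 g x)
  have h6 : g * x * g⁻¹ = x := mul_inv_eq_one.1 h5
  rw [mul_inv_eq_iff_eq_mul] at h6
  exact h6

theorem TA.of_norm [Finite G] (hp : p.Prime) (P : Sylow p G)
    (hP : normalizer ((P : Subgroup G) : Set G) ≤ centralizer ((P : Subgroup G) : Set G)) : TA p G := by
  haveI := Fact.mk hp
  refine ⟨(MonoidHom.transferSylow P hP).ker, inferInstance, MonoidHom.not_dvd_card_ker_transferSylow P hP, ?_, ?_⟩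
  · have h1 : (MonoidHom.transferSylow P hP).ker.index ∣ Nat.card P := by
      rw [index_ker]
      exact card_subgroup_dvd_card _
    obtain ⟨n, hn⟩ := (IsPGroup.iff_card).1 P.isPGroup'
    rw [hn] at h1
    obtain ⟨m, -, hm⟩ := (Nat.dvd_prime_pow hp).1 h1
    exact ⟨m, hm⟩
  · intro x y
    have hc : ∀ a b : P, a * b = b * a := fun a b =>
      Subtype.ext (hP (Subgroup.le_normalizer b.2) a a.2)
    rw [MonoidHom.mem_ker]
    simp only [map_mul, map_inv]
    rw [hc (MonoidHom.transferSylow P hP x)]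
    group

/-- Sylow subgroups are conjugate under `DD` -/
theorem TA.exists_conj [Finite G] (hp : p.Prime) (h : TA p G) (P Q : Sylow p G) :
    ∃ d ∈ DD p G, ∀ y, y ∈ Q ↔ d⁻¹ * y * d ∈ P := by
  haveI := Fact.mk hp
  let S : Subgroup G := DD p G ⊔ P
  have hPS : (P : Subgroup G) ≤ S := le_sup_right
  have hQS : (Q : Subgroup G) ≤ S := by
    obtain ⟨g, rfl⟩ := MulAction.exists_smul_eq G P Q
    intro y hy
    have hy' : g⁻¹ * y * g ∈ P := mem_smul_sylow.1 hy
    have h1 : y = (y * g⁻¹ * y⁻¹ * g⁻¹⁻¹) * (g⁻¹ * y * g) := by group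
    rw [h1]
    have hyp : PEl p y := PEl.of_mem hy
    exact mul_mem ((le_sup_left : DD p G ≤ S) (mem_DD hyp g⁻¹)) (hPS hy')
  obtain ⟨s, hs⟩ := MulAction.exists_smul_eq S (P.subtype hPS) (Q.subtype hQS)
  obtain ⟨d, hd, y, hy, hdy⟩ := mem_sup_of_normal_left.1 (show ((s : S) : G) ∈ DD p G ⊔ P from s.2)
  refine ⟨d, hd, fun x => ?_⟩
  have key : ∀ x : G, x ∈ S → (x ∈ Q ↔ (s : G)⁻¹ * x * s ∈ P) := by
    intro x hx
    have h1 : (⟨x, hx⟩ : S) ∈ s • (P.subtype hPS) ↔ (⟨x, hx⟩ : S) ∈ Q.subtype hQS := by rw [hs]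
    rw [mem_smul_sylow] at h1
    exact h1.symm
  have hxs : ∀ x : G, (s : G)⁻¹ * x * s = y⁻¹ * (d⁻¹ * x * d) * y := by
    intro x
    rw [← hdy]
    group
  have hyP : ∀ x : G, y⁻¹ * (d⁻¹ * x * d) * y ∈ P ↔ d⁻¹ * x * d ∈ P := by
    intro x
    constructor
    · intro h
      have h2 : d⁻¹ * x * d = y * (y⁻¹ * (d⁻¹ * x * d) * y) * y⁻¹ := by group
      rw [h2]
      exact mul_mem (mul_mem hy h) (inv_mem hy)
    · intro h
      exact mul_mem (mul_mem (inv_mem hy) h) hy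
  constructor
  · intro hx
    have := (key x (hQS hx)).1 hx
    rwa [hxs, hyP] at this
  · intro hx
    have hxS : x ∈ S := by
      have h2 : x = d * (d⁻¹ * x * d) * d⁻¹ := by group
      rw [h2]
      exact mul_mem (mul_mem ((le_sup_left : DD p G ≤ S) hd) (hPS hx)) (inv_mem ((le_sup_left : DD p G ≤ S) hd))
    rw [key x hxS, hxs, hyP]
    exact hx

/-- centralizer of a Sylow subgroup -/
def CP (P : Sylow p G) : Subgroup G := centralizer ((P : Subgroup G) : Set G)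

theorem mem_CP {P : Sylow p G} {x : G} : x ∈ CP P ↔ ∀ y ∈ P, y * x = x * y := mem_centralizer_iff

/-- `G = C(P) DD` -/
theorem TA.decomp [Finite G] (hp : p.Prime) (h : TA p G) (P : Sylow p G) (g : G) :
    ∃ c ∈ CP P, ∃ d ∈ DD p G, g = c * d := by
  obtain ⟨d, hd, h1⟩ := h.exists_conj hp P (g⁻¹ • P)
  refine ⟨g * d, ?_, d⁻¹, inv_mem hd, by group⟩
  rw [mem_CP]
  intro y hy
  -- g * d normalises P
  have h2 : ∀ y, y ∈ P → (g * d) * y * (g * d)⁻¹ ∈ P := by
    intro y hy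
    have h3 : d * y * d⁻¹ ∈ (g⁻¹ • P : Sylow p G) := by
      rw [h1]
      have e : d⁻¹ * (d * y * d⁻¹) * d = y := by group
      rw [e]; exact hy
    rw [mem_smul_sylow] at h3
    have e : g⁻¹⁻¹ * (d * y * d⁻¹) * g⁻¹ = (g * d) * y * (g * d)⁻¹ := by group
    rwa [e] at h3
  exact (h.comm hp P hy (h2 y hy)).symm

/-- centrality criterion -/
theorem RF_iff [Finite G] (hp : p.Prime) {x : G} : RF p x ↔ ∃ P : Sylow p G, x ∈ CP P := by
  haveI := Fact.mk hp
  constructor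
  · intro h
    obtain ⟨P, hP⟩ := Cfsg.Agent.H531.TwoPrimes.exists_sylow_le h
    refine ⟨P, ?_⟩
    rw [mem_CP]
    intro y hy
    exact mem_centralizer_singleton_iff.1 (hP hy)
  · rintro ⟨P, hP⟩ h1
    rw [mem_CP] at hP
    have h2 : (P : Subgroup G) ≤ centralizer ({x} : Set G) := by
      intro y hy
      rw [mem_centralizer_singleton_iff]
      exact hP y hy
    exact P.not_dvd_index (h1.trans (index_dvd_of_le h2))

theorem TA.RF_iff [Finite G] (hp : p.Prime) (h : TA p G) (P : Sylow p G) {x : G} :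
    RF p x ↔ ∃ d ∈ DD p G, d⁻¹ * x * d ∈ CP P := by
  rw [CS.RF_iff hp]
  constructor
  · rintro ⟨Q, hQ⟩
    obtain ⟨d, hd, h1⟩ := h.exists_conj hp P Q
    refine ⟨d, hd, ?_⟩
    rw [mem_CP] at hQ ⊢
    intro y hy
    have h2 : d * y * d⁻¹ ∈ Q := by
      rw [h1]
      have e : d⁻¹ * (d * y * d⁻¹) * d = y := by group
      rw [e]; exact hy
    have h3 := hQ _ h2
    calc y * (d⁻¹ * x * d) = d⁻¹ * (d * y * d⁻¹ * x) * d := by group
      _ = d⁻¹ * (x * (d * y * d⁻¹)) * d := by rw [h3]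
      _ = d⁻¹ * x * d * y := by group
  · rintro ⟨d, hd, h1⟩
    refine ⟨d • P, ?_⟩
    rw [mem_CP] at h1 ⊢
    intro y hy
    have h2 := h1 _ (mem_smul_sylow.1 hy)
    calc y * x = d * ((d⁻¹ * y * d) * (d⁻¹ * x * d)) * d⁻¹ := by group
      _ = d * ((d⁻¹ * x * d) * (d⁻¹ * y * d)) * d⁻¹ := by rw [h2]
      _ = x * y := by group

/-- `DD = [DD, P]` -/
theorem TA.DD_le_of [Finite G] (hp : p.Prime) (h : TA p G) (P : Sylow p G) {M : Subgroup G} [hM : M.Normal]
    (hPM : ∀ y ∈ P, ∀ d ∈ DD p G, y * d * y⁻¹ * d⁻¹ ∈ M) : DD p G ≤ M := by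
  haveI := Fact.mk hp
  refine DD_le fun y g hy => ?_
  obtain ⟨Q, hQ⟩ := hy.exists_sylow
  obtain ⟨e, rfl⟩ := MulAction.exists_smul_eq G P Q
  have hy' := mem_smul_sylow.1 hQ
  obtain ⟨c, hc, d, hd, hcd⟩ := h.decomp hp P (e⁻¹ * g * e)
  have h1 := hPM _ hy' d hd
  have h2 := (mem_CP.1 hc) _ hy'
  have h3 : y * g * y⁻¹ * g⁻¹ = e * (c * ((e⁻¹ * y * e) * d * (e⁻¹ * y * e)⁻¹ * d⁻¹) * c⁻¹) * e⁻¹ := by
    have h4 : g = e * (c * d) * e⁻¹ := by rw [← hcd]; group
    have h5 : c * (e⁻¹ * y * e) = (e⁻¹ * y * e) * c := h2.symm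
    calc y * g * y⁻¹ * g⁻¹ = e * (((e⁻¹ * y * e) * c) * d * (e⁻¹ * y * e)⁻¹ * d⁻¹ * c⁻¹) * e⁻¹ := by rw [h4]; group
      _ = e * ((c * (e⁻¹ * y * e)) * d * (e⁻¹ * y * e)⁻¹ * d⁻¹ * c⁻¹) * e⁻¹ := by rw [h5]
      _ = _ := by group
  rw [h3]
  exact hM.conj_mem _ (hM.conj_mem _ h1 c) e

end TA

end Cfsg.Agent.H544.CS

private theorem dce_24824aed1344 : _root_.True := by
  try have : _root_.True := by simp only [_root_.Cfsg.Agent.H544.CS.DD.eq_1]
  try have : _root_.True := by simp only [_root_.MonoidHom.transferSylow.congr_simp]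
  exact _root_.True.intro
end

-- part: H544/CS/Count
section
prune_inst 0xc01046004022000000000080330024000000009200200000b0400000014c0101800501003040020011082e20000c8020031000c9422800002a008a0040040120040220c09008100001000040e881180c00000000000000000000000000000004000000000
set_option linter.all false
open scoped Cfsg.Agent.FastGrp

/-!
# Counting: elements of a coset centralise exactly one conjugate
-/

set_option autoImplicit false

namespace Cfsg.Agent.H544.CS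

open Subgroup Cfsg.Agent.H532.Thr Finset
open scoped Pointwise

universe u v

open Classical in
/-- abstract double counting -/
theorem double_count {A B : Type*} [Fintype A] [Fintype B] (e : Fintype.card A = Fintype.card B) (r : A → B → Prop)
    (c : ℕ) (h1 : ∀ a, c ≤ (univ.filter fun b => r a b).card) (h2 : ∀ b, (univ.filter fun a => r a b).card ≤ c) (a : A) :
    (univ.filter fun b => r a b).card = c := by
  have h3 : ∑ a : A, (univ.filter fun b => r a b).card = ∑ b : B, (univ.filter fun a => r a b).card := by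
    simp_rw [Finset.card_filter]
    exact Finset.sum_comm
  have h4 : ∑ b : B, (univ.filter fun a => r a b).card ≤ ∑ _b : B, c := Finset.sum_le_sum fun b _ => h2 b
  have h5 : ∑ _a : A, c ≤ ∑ a : A, (univ.filter fun b => r a b).card := Finset.sum_le_sum fun a _ => h1 a
  have h6 : ∑ _a : A, c = ∑ _b : B, c := by
    rw [Finset.sum_const, Finset.sum_const, Finset.card_univ, Finset.card_univ, e]
  have h7 : ∑ _a : A, c = ∑ a : A, (univ.filter fun b => r a b).card :=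
    le_antisymm h5 (by rw [h3, h6]; exact h4)
  exact ((Finset.sum_eq_sum_iff_of_le (fun a _ => h1 a)).1 h7 a (Finset.mem_univ a)).symm

variable {G : Type u} [Group G] [Finite G]

/-- **Lemma T.** If every element of the coset `g N` is `N`-conjugate into `C`, then the conjugating elements of `N` form one
coset of `N ∩ C`. -/
theorem lemT (N : Subgroup G) [hN : N.Normal] (C : Subgroup G) (g : G)
    (h : ∀ x, g⁻¹ * x ∈ N → ∃ n ∈ N, n⁻¹ * x * n ∈ C) {x : G} (hx : g⁻¹ * x ∈ N) {n m : G} (hn : n ∈ N) (hm : m ∈ N)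
    (hxn : n⁻¹ * x * n ∈ C) (hxm : m⁻¹ * x * m ∈ C) : n⁻¹ * m ∈ C := by
  classical
  have : Fintype G := Fintype.ofFinite G
  have : Fintype N := Fintype.ofFinite N
  let r : N → N → Prop := fun a n => (n : G)⁻¹ * (g * (a : G)) * n ∈ C
  let D : Subgroup N := C.subgroupOf N
  have : Fintype D := Fintype.ofFinite D
  have hmul : ∀ (a k d : N), r a k → d ∈ D → r a (k * d) := by
    intro a k d hr hd
    show ((k * d : N) : G)⁻¹ * (g * (a : G)) * ((k * d : N) : G) ∈ C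
    have e : ((k * d : N) : G)⁻¹ * (g * (a : G)) * ((k * d : N) : G) =
        (d : G)⁻¹ * ((k : G)⁻¹ * (g * (a : G)) * k) * d := by
      rw [Subgroup.coe_mul]; group
    rw [e]
    exact mul_mem (mul_mem (inv_mem (mem_subgroupOf.1 hd)) hr) (mem_subgroupOf.1 hd)
  have h1 : ∀ a : N, Fintype.card D ≤ (univ.filter fun n => r a n).card := by
    intro a
    obtain ⟨k, hk, hkC⟩ := h (g * a) (by rw [inv_mul_cancel_left]; exact a.2)
    rw [← Finset.card_univ]
    refine Finset.card_le_card_of_injOn (fun d : D => (⟨k, hk⟩ : N) * d) ?_ ?_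
    · intro d _
      rw [Finset.mem_coe, Finset.mem_filter]
      exact ⟨Finset.mem_univ _, hmul a ⟨k, hk⟩ d hkC d.2⟩
    · intro d _ d' _ e
      exact Subtype.ext (mul_left_cancel e)
  have h2 : ∀ n : N, (univ.filter fun a => r a n).card ≤ Fintype.card D := by
    intro n
    rcases (univ.filter fun a => r a n).eq_empty_or_nonempty with he | ⟨a₀, ha₀⟩
    · rw [he]; simp
    · have ha₀' : r a₀ n := (Finset.mem_filter.1 ha₀).2
      rw [← Finset.card_univ (α := D)]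
      refine Finset.card_le_card_of_injOn (fun a : N => if h : r a n then
        (⟨(n⁻¹ * a₀⁻¹ * a * n : N), ?_⟩ : D) else 1) ?_ ?_
      · rw [mem_subgroupOf]
        have e : ((n⁻¹ * a₀⁻¹ * a * n : N) : G) = ((n : G)⁻¹ * (g * (a₀ : G)) * n)⁻¹ * ((n : G)⁻¹ * (g * (a : G)) * n) := by
          simp only [Subgroup.coe_mul, InvMemClass.coe_inv]; group
        rw [e]
        exact mul_mem (inv_mem ha₀') h
      · intro a _
        exact Finset.mem_coe.2 (Finset.mem_univ _)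
      · intro a ha b hb e
        rw [Finset.mem_coe, Finset.mem_filter] at ha hb
        simp only [ha.2, hb.2, dite_true] at e
        have e2 := congrArg Subtype.val e
        simp only at e2
        exact mul_left_cancel (mul_right_cancel e2)
  have h3 := double_count rfl r (Fintype.card D) h1 h2 ⟨g⁻¹ * x, hx⟩
  have hr : ∀ k : N, r ⟨g⁻¹ * x, hx⟩ k ↔ (k : G)⁻¹ * x * k ∈ C := by
    intro k
    show (k : G)⁻¹ * (g * (g⁻¹ * x)) * k ∈ C ↔ _
    rw [mul_inv_cancel_left]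
  have h4 : (univ.filter fun k : N => r ⟨g⁻¹ * x, hx⟩ k) = univ.image (fun d : D => (⟨n, hn⟩ : N) * d) := by
    symm
    apply Finset.eq_of_subset_of_card_le
    · intro k hk
      rw [Finset.mem_image] at hk
      obtain ⟨d, -, rfl⟩ := hk
      rw [Finset.mem_filter]
      exact ⟨Finset.mem_univ _, hmul _ ⟨n, hn⟩ d ((hr _).2 hxn) d.2⟩
    · rw [h3, Finset.card_image_of_injective _ (fun d d' e => Subtype.ext (mul_left_cancel e)), Finset.card_univ]
  have h5 : (⟨m, hm⟩ : N) ∈ univ.image (fun d : D => (⟨n, hn⟩ : N) * d) := by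
    rw [← h4, Finset.mem_filter]
    exact ⟨Finset.mem_univ _, (hr _).2 hxm⟩
  rw [Finset.mem_image] at h5
  obtain ⟨d, -, hd⟩ := h5
  have h6 : m = n * d := (congrArg Subtype.val hd).symm
  rw [h6, inv_mul_cancel_left]
  exact mem_subgroupOf.1 d.2

/-- **The coset lemma.** -/
theorem TA.coset {p : ℕ} (hp : p.Prime) (h : TA p G) (P : Sylow p G) {z : G} (hz : z ∈ CP P)
    (hcos : ∀ x, z⁻¹ * x ∈ DD p G → RF p x) {g : G} (hg : g * z = z * g) : g ∈ CP P := by
  obtain ⟨c, hc, d, hd, rfl⟩ := h.decomp hp P g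
  have hx : c⁻¹ * z * c = d * z * d⁻¹ := by
    calc c⁻¹ * z * c = c⁻¹ * (z * (c * d)) * d⁻¹ := by group
      _ = c⁻¹ * ((c * d) * z) * d⁻¹ := by rw [hg]
      _ = d * z * d⁻¹ := by group
  have h1 : z⁻¹ * (c⁻¹ * z * c) ∈ DD p G := by
    rw [hx]
    have e : z⁻¹ * (d * z * d⁻¹) = (z⁻¹ * d * z⁻¹⁻¹) * d⁻¹ := by group
    rw [e]
    exact mul_mem (DD_normal.conj_mem _ hd _) (inv_mem hd)
  have h2 := lemT (DD p G) (CP P) z (fun x hx => (h.RF_iff hp P).1 (hcos x hx)) h1 (one_mem _) hd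
    (by rw [inv_one, one_mul, mul_one]; exact mul_mem (mul_mem (inv_mem hc) hz) hc)
    (by
      rw [hx]
      have e : d⁻¹ * (d * z * d⁻¹) * d = z := by group
      rw [e]; exact hz)
  rw [inv_one, one_mul] at h2
  exact mul_mem hc h2

end Cfsg.Agent.H544.CS
end

-- part: H544/CS/Min
section
prune_inst 0xf00027041400000000000080110024000000009200200001b000000000048101a04509003000020011282a30000e8020030000c94000000020008a0040000120040220c01000100001000040e881180c00000000000000000000000000000004000000000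
set_option linter.all false
open scoped Cfsg.Agent.FastGrp

/-!
# `DD p G` minimal normal
-/

set_option autoImplicit false

namespace Cfsg.Agent.H544.CS

open Subgroup Cfsg.Agent.H532.Thr
open scoped Pointwise

universe u v

variable {G : Type u} [Group G] {p q : ℕ}

theorem rf_one (hp : p.Prime) : RF p (1 : G) := by
  intro h
  have : centralizer ({(1 : G)} : Set G) = ⊤ := by
    rw [eq_top_iff]
    intro x _
    rw [mem_centralizer_singleton_iff, one_mul, mul_one]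
  rw [this, index_top] at h
  exact hp.one_lt.ne' (Nat.dvd_one.1 h)

theorem rf_map {H : Type v} [Group H] {f : G →* H} (hf : Function.Surjective f) {x : G} (h : RF p x) : RF p (f x) :=
  fun h1 => h (h1.trans (Cfsg.Agent.H531.ClassIndex.surj_dvd hf x))

theorem rf_mk {x : G} (h : RF p x) (N : Subgroup G) [N.Normal] : RF p (x : G ⧸ N) :=
  rf_map (QuotientGroup.mk'_surjective N) h

variable [Finite G]

/-- `[G, P]` is not contained in the set of `p`-central elements -/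
theorem TA.exists_notRF (hp : p.Prime) (h : TA p G) (hne : DD p G ≠ ⊥) : ∃ x ∈ DD p G, ¬ RF p x := by
  by_contra hcon
  push Not at hcon
  obtain ⟨P⟩ : Nonempty (Sylow p G) := inferInstance
  apply hne
  have h1 : (CP P).subgroupOf (DD p G) = ⊤ := by
    apply eq_top_of_cover
    rintro ⟨x, hx⟩
    obtain ⟨d, hd, h1⟩ := (h.RF_iff hp P).1 (hcon x hx)
    refine ⟨⟨d⁻¹, inv_mem hd⟩, ?_⟩
    rw [mem_subgroupOf]
    show d⁻¹ * x * d⁻¹⁻¹ ∈ CP P
    rwa [inv_inv]
  rw [eq_bot_iff]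
  refine h.DD_le_of hp P (M := ⊥) fun y hy d hd => ?_
  have h2 : (⟨d, hd⟩ : DD p G) ∈ (CP P).subgroupOf (DD p G) := by rw [h1]; exact mem_top _
  have h3 := (mem_CP.1 (mem_subgroupOf.1 h2)) y hy
  rw [mem_bot]
  have h4 : y * d = d * y := h3
  rw [h4]; group

/-- the complement of a normal subgroup consisting of `p`-central elements -/
theorem TA.DD_le_of_compl (hp : p.Prime) (h : TA p G) (C : Subgroup G) [C.Normal] (hC : ∀ x, x ∉ C → RF p x) :
    DD p G ≤ C := by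
  let M : Subgroup G := DD p G ⊓ C
  have hsurj := QuotientGroup.mk'_surjective M
  have h1 : DD p (G ⧸ M) = ⊥ := by
    by_contra hne
    obtain ⟨y, hy, hy2⟩ := (h.quo hp M).exists_notRF hp hne
    obtain ⟨x, rfl⟩ := hsurj y
    obtain ⟨d, hd, hdx⟩ := mem_DD_of_map hp hsurj hy
    rw [← hdx] at hy2
    by_cases hdC : d ∈ C
    · have h2 : (QuotientGroup.mk' M) d = 1 := (QuotientGroup.eq_one_iff d).2 ⟨hd, hdC⟩
      rw [h2] at hy2
      exact hy2 (rf_one hp)
    · exact hy2 (rf_map hsurj (hC d hdC))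
  rw [← map_DD hp hsurj, Subgroup.map_eq_bot_iff, QuotientGroup.ker_mk'] at h1
  exact h1.trans inf_le_right

/-- fixed points of `P` on `[G, P]` are trivial if this is abelian and minimal -/
theorem TA.inf_CP (hp : p.Prime) (h : TA p G) (hab : Ab (DD p G)) (hmin : MinN (DD p G)) (P : Sylow p G) :
    DD p G ⊓ CP P = ⊥ := by
  have hn : (DD p G ⊓ CP P).Normal := by
    constructor
    rintro x ⟨hx1, hx2⟩ g
    refine Subgroup.mem_inf.2 ⟨DD_normal.conj_mem x hx1 g, ?_⟩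
    obtain ⟨c, hc, d, hd, rfl⟩ := h.decomp hp P g
    have e : c * d * x * (c * d)⁻¹ = c * x * c⁻¹ := by
      calc c * d * x * (c * d)⁻¹ = c * (d * x) * d⁻¹ * c⁻¹ := by group
        _ = c * (x * d) * d⁻¹ * c⁻¹ := by rw [hab d hd x hx1]
        _ = c * x * c⁻¹ := by group
    rw [e]
    exact mul_mem (mul_mem hc hx2) (inv_mem hc)
  rcases hmin.2.2 _ hn inf_le_left with h1 | h1
  · exact h1
  · exfalso
    apply hmin.2.1
    rw [eq_bot_iff]
    refine h.DD_le_of hp P (M := ⊥) fun y hy d hd => ?_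
    have h2 : d ∈ DD p G ⊓ CP P := by rw [h1]; exact hd
    have h3 := (mem_CP.1 h2.2) y hy
    rw [mem_bot, h3]; group

theorem TA.notRF (hp : p.Prime) (h : TA p G) (hab : Ab (DD p G)) (hmin : MinN (DD p G)) {x : G} (hx : x ∈ DD p G)
    (hx1 : x ≠ 1) : ¬ RF p x := by
  intro hr
  obtain ⟨P⟩ : Nonempty (Sylow p G) := inferInstance
  obtain ⟨d, hd, h1⟩ := (h.RF_iff hp P).1 hr
  have e : d⁻¹ * x * d = x := by
    rw [mul_assoc, hab x hx d hd, inv_mul_cancel_left]
  rw [e] at h1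
  apply hx1
  have h2 : x ∈ DD p G ⊓ CP P := ⟨hx, h1⟩
  rw [h.inf_CP hp hab hmin P] at h2
  exact mem_bot.1 h2

/-- the product trick -/
theorem TA.prod_trick (hp : p.Prime) (h : TA p G) (hab : Ab (DD p G)) (hmin : MinN (DD p G)) {d w : G}
    (hd : d ∈ centralizer (DD p G : Set G)) (hw : w ∈ DD p G) (hw1 : w ≠ 1) : ¬ RF p d ∨ ¬ RF p (w * d) := by
  by_contra hcon
  push Not at hcon
  obtain ⟨P⟩ : Nonempty (Sylow p G) := inferInstance
  obtain ⟨a, ha, h1⟩ := (h.RF_iff hp P).1 hcon.1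
  obtain ⟨b, hb, h2⟩ := (h.RF_iff hp P).1 hcon.2
  rw [mem_centralizer_iff] at hd
  have e1 : a⁻¹ * d * a = d := by
    rw [mul_assoc, ← hd a ha, inv_mul_cancel_left]
  have e2 : b⁻¹ * (w * d) * b = w * d := by
    have : w * d * b = b * (w * d) := by
      rw [mul_assoc, ← hd b hb, ← mul_assoc, hab w hw b hb, mul_assoc]
    rw [mul_assoc, this, inv_mul_cancel_left]
  rw [e1] at h1
  rw [e2] at h2
  apply hw1
  have h3 : w ∈ DD p G ⊓ CP P := ⟨hw, by
    have := mul_mem h2 (inv_mem h1)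
    rwa [mul_inv_cancel_right] at this⟩
  rw [h.inf_CP hp hab hmin P] at h3
  exact mem_bot.1 h3

/-- all elements of a normal subgroup containing the `q`-elements are `q`-central -/
theorem central_of_RF (hq : q.Prime) (N : Subgroup G) [N.Normal] (hN : ∀ x ∈ N, RF q x) (hqN : ∀ y : G, PEl q y → y ∈ N)
    {y : G} (hy : PEl q y) {x : G} (hx : x ∈ N) : x * y = y * x := by
  haveI := Fact.mk hq
  obtain ⟨Q, hQ⟩ := hy.exists_sylow
  have hQN : (Q : Subgroup G) ≤ N := fun z hz => hqN z (PEl.of_mem hz)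
  have h1 : (CP Q).subgroupOf N = ⊤ := by
    apply eq_top_of_cover
    rintro ⟨x, hx⟩
    obtain ⟨Q', hQ'⟩ := (CS.RF_iff hq).1 (hN x hx)
    have hQN' : (Q' : Subgroup G) ≤ N := fun z hz => hqN z (PEl.of_mem hz)
    obtain ⟨s, hs⟩ := MulAction.exists_smul_eq N (Q'.subtype hQN') (Q.subtype hQN)
    refine ⟨s, ?_⟩
    rw [mem_subgroupOf, mem_CP]
    intro z hz
    have hz1 : (⟨z, hQN hz⟩ : N) ∈ s • (Q'.subtype hQN') := by rw [hs]; exact hz
    rw [mem_smul_sylow] at hz1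
    have hz2 : (s : G)⁻¹ * z * s ∈ Q' := hz1
    have h3 := (mem_CP.1 hQ') _ hz2
    show z * ((s : G) * x * (s : G)⁻¹) = (s : G) * x * (s : G)⁻¹ * z
    calc z * ((s : G) * x * (s : G)⁻¹) = s * (((s : G)⁻¹ * z * s) * x) * (s : G)⁻¹ := by group
      _ = s * (x * ((s : G)⁻¹ * z * s)) * (s : G)⁻¹ := by rw [h3]
      _ = _ := by group
  have h2 : (⟨x, hx⟩ : N) ∈ (CP Q).subgroupOf N := by rw [h1]; exact mem_top _
  exact ((mem_CP.1 (mem_subgroupOf.1 h2)) y hQ).symm

/-- **Kernel lemma.** If the `q`-elements centralise `V = [G, P]` then `C(V)` consists of `q`-central elements. -/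
theorem TA.kernel (hp : p.Prime) (h : TA p G) (hmin : MinN (DD p G)) (hcov : ∀ x : G, ¬ RF p x → RF q x)
    {x : G} (hx : x ∈ centralizer (DD p G : Set G)) : RF q x := by
  by_cases hab : Ab (DD p G)
  · by_cases hrx : RF p x
    · -- choose `w`
      obtain ⟨w, hw, hw1⟩ := (DD p G).bot_or_exists_ne_one.resolve_left hmin.2.1
      rcases h.prod_trick hp hab hmin hx hw hw1 with h1 | h1
      · exact absurd hrx h1
      · have h2 := hcov _ h1
        -- `C(w x)` lies in `C(x)` : `x` is determined by `w x` using `P`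
        obtain ⟨P⟩ : Nonempty (Sylow p G) := inferInstance
        obtain ⟨a, ha, h3⟩ := (h.RF_iff hp P).1 hrx
        rw [mem_centralizer_iff] at hx
        have e1 : a⁻¹ * x * a = x := by
          rw [mul_assoc, ← hx a ha, inv_mul_cancel_left]
        rw [e1] at h3
        intro hdvd
        apply h2
        refine hdvd.trans (index_dvd_of_le ?_)
        intro g hg
        rw [mem_centralizer_singleton_iff] at hg ⊢
        -- g = c d
        obtain ⟨c, hc, d, hd, rfl⟩ := h.decomp hp P g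
        have h4 : d * x = x * d := hx d hd
        have h5 : d * w = w * d := hab d hd w hw
        have h6 : c * (w * x) = w * x * c := by
          have : c * (d * (w * x)) = w * x * (c * d) := by rw [← mul_assoc]; exact hg
          have e : d * (w * x) = w * x * d := by
            rw [← mul_assoc, h5, mul_assoc, h4, ← mul_assoc]
          rw [e] at this
          have h55 : c * (w * x) * d = w * x * c * d := by
            rw [mul_assoc c, this]; group
          exact mul_right_cancel h55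
        -- (c w c⁻¹) (c x c⁻¹) = w x
        have h7 : w⁻¹ * (c * w * c⁻¹) = x * (c * x * c⁻¹)⁻¹ := by
          have : c * w * c⁻¹ * (c * x * c⁻¹) = w * x := by
            calc c * w * c⁻¹ * (c * x * c⁻¹) = c * (w * x) * c⁻¹ := by group
              _ = w * x * c * c⁻¹ := by rw [h6]
              _ = w * x := by group
          rw [inv_mul_eq_iff_eq_mul, ← mul_assoc, ← this]
          group
        have h8 : x * (c * x * c⁻¹)⁻¹ ∈ DD p G ⊓ CP P := by
          refine Subgroup.mem_inf.2 ⟨?_, mul_mem h3 (inv_mem (mul_mem (mul_mem hc h3) (inv_mem hc)))⟩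
          rw [← h7]
          exact mul_mem (inv_mem hw) (DD_normal.conj_mem _ hw c)
        rw [h.inf_CP hp hab hmin P, mem_bot, mul_inv_eq_one] at h8
        have h9 : c * x = x * c := by
          have h10 : x * c = c * x * c⁻¹ * c := by rw [← h8]
          rw [h10]; group
        rw [mul_assoc, h4, ← mul_assoc, h9, mul_assoc]
    · exact hcov _ hrx
  · obtain ⟨w, hw, h1⟩ := h.exists_notRF hp hmin.2.1
    have hint : DD p G ⊓ centralizer (DD p G : Set G) = ⊥ := by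
      have hn : (DD p G ⊓ centralizer (DD p G : Set G)).Normal := by
        haveI : (centralizer (DD p G : Set G)).Normal := Subgroup.normal_centralizer
        infer_instance
      rcases hmin.2.2 _ hn inf_le_left with h2 | h2
      · exact h2
      · exfalso
        apply hab
        intro a ha b hb
        have h3 : b ∈ DD p G ⊓ centralizer (DD p G : Set G) := by rw [h2]; exact hb
        exact (mem_centralizer_iff.1 h3.2) a ha
    haveI : (centralizer (DD p G : Set G)).Normal := Subgroup.normal_centralizer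
    have h2 : ¬ RF p (w * x) := fun h3 => h1 (RF.of_mul hint hw hx h3).1
    exact (RF.of_mul hint hw hx (hcov _ h2)).2

theorem TA.kernel_central (hp : p.Prime) (hq : q.Prime) (h : TA p G) (hmin : MinN (DD p G))
    (hcov : ∀ x : G, ¬ RF p x → RF q x) (hqV : ∀ y : G, PEl q y → y ∈ centralizer (DD p G : Set G))
    {y : G} (hy : PEl q y) {x : G} (hx : x ∈ centralizer (DD p G : Set G)) : x * y = y * x := by
  haveI : (centralizer (DD p G : Set G)).Normal := Subgroup.normal_centralizer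
  exact central_of_RF hq _ (fun x hx => h.kernel hp hmin hcov hx) hqV hy hx

/-- the Sylow subgroup is normal -/
theorem normal_of_comm (Q : Sylow q G) (h : ∀ x y : G, PEl q x → PEl q y → x * y = y * x) : (Q : Subgroup G).Normal := by
  constructor
  intro n hn g
  -- the subgroup generated by `Q` and `g n g⁻¹` is a `q`-group
  let A : Subgroup G := closure {x | PEl q x}
  have hA : ∀ x ∈ A, PEl q x ∧ ∀ y ∈ A, x * y = y * x := by
    have hc : ∀ x ∈ A, ∀ y ∈ A, x * y = y * x := by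
      intro x hx y hy
      have h1 : A ≤ centralizer (A : Set G) := by
        have h2 : (closure {x : G | PEl q x}) ≤ centralizer ({x : G | PEl q x} : Set G) := by
          rw [closure_le]
          intro a ha b hb
          exact h b a hb ha
        rw [show A = closure {x : G | PEl q x} from rfl, centralizer_closure, ]
        exact h2
      exact ((mem_centralizer_iff.1 (h1 hy)) x hx)
    intro x hx
    refine ⟨?_, hc x hx⟩
    have hx' : x ∈ closure {x : G | PEl q x} := hx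
    clear hx
    induction hx' using closure_induction with
    | mem x hx => exact hx
    | one => exact PEl.one
    | mul x y hx1 hy1 ihx ihy =>
      obtain ⟨a, ha⟩ := ihx
      obtain ⟨b, hb⟩ := ihy
      refine ⟨a + b, ?_⟩
      have hxy : Commute x y := hc x hx1 y hy1
      rw [hxy.mul_pow, pow_add, pow_mul, ha, one_pow, one_mul, mul_comm, pow_mul, hb, one_pow]
    | inv x hx1 ihx => exact ihx.inv
  have hAp : IsPGroup q A := by
    rintro ⟨x, hx⟩
    obtain ⟨k, hk⟩ := (hA x hx).1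
    exact ⟨k, Subtype.ext hk⟩
  have hQA : (Q : Subgroup G) ≤ A := fun x hx => subset_closure (PEl.of_mem hx)
  have hAQ : A = Q := Q.is_maximal' hAp hQA
  rw [← hAQ]
  exact subset_closure ((PEl.of_mem hn).conj g)

end Cfsg.Agent.H544.CS
end

-- part: H544/CS/Top
section
prune_inst 0xd00067045400000000000080310024002000009200200001b0400000090c8101a04509003050020011282ab0600e8020030000c9422800002a008a0040000120040320e0903c1c0011000040e881180c00000000000000000000000000000004000000000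
set_option linter.all false
open scoped Cfsg.Agent.FastGrp

/-!
# Top chief factors of `DD p G`; the relation `Fr p q G`
-/

set_option autoImplicit false

namespace Cfsg.Agent.H544.CS

open Subgroup Cfsg.Agent.H532.Thr
open scoped Pointwise

universe u v

/-! ### The inputs -/

/-- non-abelian factors -/
def BoxNA : Prop := ∀ (G : Type u) [Group G] [Finite G] (p q : ℕ), p.Prime → q.Prime → p ≠ q → TA p G →
  ¬ Ab (DD p G) → MinN (DD p G) → ∀ (N : Subgroup G) [N.Normal], DD p G ≤ N → TA q N →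
  (∀ x ∈ DD p G, RF p x ∨ RF q x) → ∀ y ∈ N, PEl q y → ∀ v ∈ DD p G, y * v = v * y

/-- semilinear groups -/
def BoxGL : Prop := ∀ (G : Type u) [Group G] [Finite G] (p q : ℕ), p.Prime → q.Prime → p ≠ q → TA p G →
  Ab (DD p G) → MinN (DD p G) → (∀ x : G, ¬ RF p x → RF q x) → ∀ (M N : Subgroup G) [M.Normal] [N.Normal],
  DD p G ≤ M → M ≤ N → ¬ q ∣ Nat.card M → (∃ n, M.relIndex N = q ^ n) →
  ∀ y ∈ N, PEl q y → (∃ v ∈ DD p G, y * v ≠ v * y) → GL1 (DD p G)

/-- the second linear input -/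
def BoxBL : Prop := ∀ (G : Type u) [Group G] [Finite G] (p q : ℕ), p.Prime → q.Prime → p ≠ q → TA p G →
  Ab (DD p G) → MinN (DD p G) → (∀ x : G, ¬ RF p x → RF q x) → TA q G →
  ∀ Q : Sylow q G, (∃ y ∈ Q, ∃ v ∈ DD p G, y * v ≠ v * y) →
  ∀ z : G, ¬ q ∣ orderOf z → (∀ y ∈ Q, z * y = y * z) →
  (∀ g : G, g * z * g⁻¹ * z⁻¹ ∈ centralizer (DD p G : Set G) →
    ∀ y ∈ Q, g * y * g⁻¹ * y⁻¹ ∈ centralizer (DD p G : Set G)) → False

/-- `D / R` is a chief factor -/
structure Top {G : Type*} [Group G] (D R : Subgroup G) : Prop where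
  nor : R.Normal
  le : R ≤ D
  ne : R ≠ D
  max : ∀ M : Subgroup G, M.Normal → R ≤ M → M ≤ D → M = R ∨ M = D

/-- nonadjacent -/
def NAdj (p q : ℕ) (G : Type*) [Group G] : Prop := ∀ x : G, RF p x ∨ RF q x

theorem NAdj.symm {p q : ℕ} {G : Type*} [Group G] (h : NAdj p q G) : NAdj q p G := fun x => (h x).symm

/-- `q` moves a top factor of `[G, P]` -/
def Fr (p q : ℕ) (G : Type*) [Group G] : Prop :=
  ∃ R, Top (DD p G) R ∧ ∃ y d : G, PEl q y ∧ d ∈ DD p G ∧ y * d * y⁻¹ * d⁻¹ ∉ R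

variable {G : Type u} [Group G] [Finite G] {p q : ℕ}

theorem exists_top (D M : Subgroup G) [D.Normal] (hM : M.Normal) (h1 : M ≤ D) (h2 : M ≠ D) :
    ∃ R, Top D R ∧ M ≤ R := by
  obtain ⟨R, h3, h4⟩ := (Set.toFinite {R : Subgroup G | R.Normal ∧ M ≤ R ∧ R ≤ D ∧ R ≠ D}).exists_le_maximal
    (a := M) ⟨hM, le_rfl, h1, h2⟩
  refine ⟨R, ⟨h4.1.1, h4.1.2.2.1, h4.1.2.2.2, fun S hS h5 h6 => ?_⟩, h3⟩
  by_cases hSD : S = D
  · exact Or.inr hSD
  · exact Or.inl (le_antisymm (h4.2 ⟨hS, h4.1.2.1.trans h5, h6, hSD⟩ h5) h5)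

theorem mk_mem_DD (hp : p.Prime) (R : Subgroup G) [R.Normal] {x : G} (hx : x ∈ DD p G) :
    (x : G ⧸ R) ∈ DD p (G ⧸ R) := by
  rw [← map_DD hp (QuotientGroup.mk'_surjective R)]
  exact ⟨x, hx, rfl⟩

theorem mem_of_mk_mem_DD (hp : p.Prime) (R : Subgroup G) [R.Normal] (hR : R ≤ DD p G) {x : G}
    (hx : (x : G ⧸ R) ∈ DD p (G ⧸ R)) : x ∈ DD p G := by
  rw [← map_DD hp (QuotientGroup.mk'_surjective R)] at hx
  obtain ⟨d, hd, h⟩ := hx
  have h1 : d⁻¹ * x ∈ R := QuotientGroup.eq.1 h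
  have e : x = d * (d⁻¹ * x) := by group
  rw [e]
  exact mul_mem hd (hR h1)

theorem exists_of_mem_DD (hp : p.Prime) (R : Subgroup G) [R.Normal] {x : G ⧸ R}
    (hx : x ∈ DD p (G ⧸ R)) : ∃ d ∈ DD p G, (d : G ⧸ R) = x := by
  rw [← map_DD hp (QuotientGroup.mk'_surjective R)] at hx
  exact hx

theorem DD_quo_eq_bot (hp : p.Prime) (R : Subgroup G) [R.Normal] : DD p (G ⧸ R) = ⊥ ↔ DD p G ≤ R := by
  rw [← map_DD hp (QuotientGroup.mk'_surjective R), Subgroup.map_eq_bot_iff, QuotientGroup.ker_mk']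

theorem Top.minN (hp : p.Prime) {R : Subgroup G} [hn : R.Normal] (h : Top (DD p G) R) : MinN (DD p (G ⧸ R)) := by
  refine ⟨inferInstance, ?_, fun M hM hMD => ?_⟩
  · rw [Ne, DD_quo_eq_bot hp]
    exact fun h1 => h.ne (le_antisymm h.le h1)
  · have hsurj := QuotientGroup.mk'_surjective R
    have hker : R ≤ M.comap (QuotientGroup.mk' R) := by
      intro x hx
      rw [mem_comap, QuotientGroup.mk'_apply, (QuotientGroup.eq_one_iff x).2 hx]
      exact one_mem _
    have h1 : M.comap (QuotientGroup.mk' R) ≤ DD p G := fun x hx => mem_of_mk_mem_DD hp R h.le (hMD hx)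
    rcases h.max _ (hM.comap _) hker h1 with h2 | h2
    · left
      rw [← map_comap_eq_self_of_surjective hsurj M, h2, Subgroup.map_eq_bot_iff, QuotientGroup.ker_mk']
    · right
      rw [← map_comap_eq_self_of_surjective hsurj M, h2, map_DD hp hsurj]

/-- a `q`-element of the quotient lifts -/
theorem PEl.lift_mk (hq : q.Prime) (R : Subgroup G) [R.Normal] {y : G ⧸ R} (hy : PEl q y) :
    ∃ x : G, PEl q x ∧ (x : G ⧸ R) = y := by
  obtain ⟨x, rfl⟩ := QuotientGroup.mk'_surjective R y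
  obtain ⟨n, h1, h2⟩ := hy.lift hq
  exact ⟨x ^ n, h1, h2⟩

theorem mem_cent_DD_quo (hp : p.Prime) (R : Subgroup G) [R.Normal] {g : G} :
    (g : G ⧸ R) ∈ centralizer (DD p (G ⧸ R) : Set (G ⧸ R)) ↔ ∀ d ∈ DD p G, g * d * g⁻¹ * d⁻¹ ∈ R := by
  have key : ∀ d : G, (g * d * g⁻¹ * d⁻¹ ∈ R ↔ (d : G ⧸ R) * (g : G ⧸ R) = g * d) := by
    intro d
    rw [← QuotientGroup.eq_one_iff]
    simp only [QuotientGroup.mk_mul, QuotientGroup.mk_inv]
    rw [mul_inv_eq_one, mul_inv_eq_iff_eq_mul]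
    exact eq_comm
  rw [mem_centralizer_iff]
  constructor
  · intro h d hd
    exact (key d).2 (h _ (mk_mem_DD hp R hd))
  · intro h x hx
    obtain ⟨d, hd, rfl⟩ := exists_of_mem_DD hp R hx
    exact (key d).1 (h d hd)

theorem TA.DD_bot_of_normal (hq : q.Prime) (h : TA q G) (Q : Sylow q G) (hn : (Q : Subgroup G).Normal) :
    DD q G = ⊥ := by
  haveI := Fact.mk hq
  rw [eq_bot_iff]
  refine DD_le fun y g hy => ?_
  obtain ⟨Q', hQ'⟩ := hy.exists_sylow
  obtain ⟨e, rfl⟩ := MulAction.exists_smul_eq G Q Q'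
  have h1 := hn.conj_mem _ (mem_smul_sylow.1 hQ') e
  have e1 : e * (e⁻¹ * y * e) * e⁻¹ = y := by group
  rw [e1] at h1
  have h2 := h.comm hq Q h1 (hn.conj_mem y h1 g)
  rw [mem_bot, ← h2]; group

/-- the `q`-elements centralise `V = DD p G` : then the Sylow `q`-subgroup is normal -/
theorem TA.kernel_normal (hp : p.Prime) (hq : q.Prime) (h : TA p G) (hmin : MinN (DD p G))
    (hcov : ∀ x : G, ¬ RF p x → RF q x) (hqV : ∀ y : G, PEl q y → y ∈ centralizer (DD p G : Set G))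
    (Q : Sylow q G) : (Q : Subgroup G).Normal :=
  normal_of_comm Q fun _ _ hx hy => h.kernel_central hp hq hmin hcov hqV hy (hqV _ hx)

theorem NAdj.cov (h : NAdj p q G) (R : Subgroup G) [R.Normal] (x : G ⧸ R) (hx : ¬ RF p x) : RF q x := by
  obtain ⟨x, rfl⟩ := QuotientGroup.mk'_surjective R x
  exact rf_mk ((h x).resolve_left fun h1 => hx (rf_mk h1 R)) R

theorem NAdj.quo (h : NAdj p q G) (R : Subgroup G) [R.Normal] : NAdj p q (G ⧸ R) := by
  intro x
  by_cases hx : RF p x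
  · exact Or.inl hx
  · exact Or.inr (h.cov R x hx)

/-- `q` centralises `[G,P]/R` : then `[G,Q] ≤ R` -/
theorem DD_le_of_cent (hp : p.Prime) (hq : q.Prime) (hTp : TA p G) (hTq : TA q G) (R : Subgroup G)
    (hR : Top (DD p G) R) (hcov : ∀ x : G, ¬ RF p x → RF q x)
    (hc : ∀ y d : G, PEl q y → d ∈ DD p G → y * d * y⁻¹ * d⁻¹ ∈ R) : DD q G ≤ R := by
  haveI := hR.nor
  rw [← DD_quo_eq_bot hq R]
  obtain ⟨Q⟩ : Nonempty (Sylow q (G ⧸ R)) := inferInstance
  refine (hTq.quo hq R).DD_bot_of_normal hq Q ?_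
  refine (hTp.quo hp R).kernel_normal hp hq (hR.minN hp) ?_ ?_ Q
  · intro x hx
    obtain ⟨x, rfl⟩ := QuotientGroup.mk'_surjective R x
    exact rf_mk (hcov x fun h1 => hx (rf_mk h1 R)) R
  · intro y hy
    obtain ⟨x, hx, rfl⟩ := hy.lift_mk hq R
    rw [mem_cent_DD_quo hp R]
    exact fun d hd => hc x d hx hd

theorem Fr_or (hp : p.Prime) (hq : q.Prime) (hTp : TA p G) (hTq : TA q G) (hNA : NAdj p q G)
    (hp1 : DD p G ≠ ⊥) (hq1 : DD q G ≠ ⊥) : Fr p q G ∨ Fr q p G := by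
  by_contra hcon
  push Not at hcon
  obtain ⟨R, hR, -⟩ := exists_top (DD p G) ⊥ inferInstance bot_le (Ne.symm hp1)
  obtain ⟨S, hS, -⟩ := exists_top (DD q G) ⊥ inferInstance bot_le (Ne.symm hq1)
  have h1 : DD q G ≤ R := DD_le_of_cent hp hq hTp hTq R hR (fun x hx => (hNA x).resolve_left hx) (by
    intro y d hy hd
    by_contra h
    exact hcon.1 ⟨R, hR, y, d, hy, hd, h⟩)
  have h2 : DD p G ≤ S := DD_le_of_cent hq hp hTq hTp S hS (fun x hx => (hNA x).resolve_right hx) (by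
    intro y d hy hd
    by_contra h
    exact hcon.2 ⟨S, hS, y, d, hy, hd, h⟩)
  exact hR.ne (le_antisymm hR.le (h2.trans (hS.le.trans h1)))

/-- the moved top factor is abelian -/
theorem Fr.ab (bNA : BoxNA.{u}) (hp : p.Prime) (hq : q.Prime) (hpq : p ≠ q) (hTp : TA p G) (hTq : TA q G)
    (hNA : NAdj p q G) (R : Subgroup G) [R.Normal] (hR : Top (DD p G) R) {y d : G} (hy : PEl q y) (hd : d ∈ DD p G)
    (h : y * d * y⁻¹ * d⁻¹ ∉ R) : Ab (DD p (G ⧸ R)) := by
  by_contra hab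
  apply h
  have h1 := bNA (G ⧸ R) p q hp hq hpq (hTp.quo hp R) hab (hR.minN hp) ⊤ le_top ((hTq.quo hq R).sub hq ⊤)
    (fun x _ => (hNA.quo R) x) (y : G ⧸ R) (mem_top _) (hy.map (QuotientGroup.mk' R)) (d : G ⧸ R) (mk_mem_DD hp R hd)
  rw [← QuotientGroup.eq_one_iff]
  simp only [QuotientGroup.mk_mul, QuotientGroup.mk_inv]
  rw [h1]; group

/-- elements of `[G,P]` outside `R` are not `p`-central -/
theorem notRF_of_top (hp : p.Prime) (hTp : TA p G) (R : Subgroup G) [R.Normal] (hR : Top (DD p G) R)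
    (hab : Ab (DD p (G ⧸ R))) {x : G} (hx : x ∈ DD p G) (hxR : x ∉ R) : ¬ RF p (x : G ⧸ R) :=
  (hTp.quo hp R).notRF hp hab (hR.minN hp) (mk_mem_DD hp R hx) fun h => hxR ((QuotientGroup.eq_one_iff x).1 h)

theorem exists_not_mem_two {M A B : Subgroup G} (hA : ¬ M ≤ A) (hB : ¬ M ≤ B) : ∃ x ∈ M, x ∉ A ∧ x ∉ B := by
  obtain ⟨a, ha, haA⟩ := SetLike.not_le_iff_exists.1 hA
  obtain ⟨b, hb, hbB⟩ := SetLike.not_le_iff_exists.1 hB
  by_cases h1 : a ∈ B
  · by_cases h2 : b ∈ A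
    · refine ⟨a * b, mul_mem ha hb, fun h => haA ?_, fun h => hbB ?_⟩
      · exact (mul_mem_cancel_right h2).1 h
      · exact (mul_mem_cancel_left h1).1 h
    · exact ⟨b, hb, h2, hbB⟩
  · exact ⟨a, ha, haA, h1⟩

/-- `F(p,q)` : `[G,P]` lies in every maximal `G`-invariant subgroup of `[G,Q]` -/
theorem Fr.le_top (bNA : BoxNA.{u}) (hp : p.Prime) (hq : q.Prime) (hpq : p ≠ q) (hTp : TA p G) (hTq : TA q G)
    (hNA : NAdj p q G) (hF : Fr p q G) (S : Subgroup G) (hS : Top (DD q G) S) : DD p G ≤ S := by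
  by_contra hcon
  haveI := hS.nor
  have h1 : ∃ y d : G, PEl p y ∧ d ∈ DD q G ∧ y * d * y⁻¹ * d⁻¹ ∉ S := by
    by_contra h
    push Not at h
    exact hcon (DD_le_of_cent hq hp hTq hTp S hS (fun x hx => (hNA x).resolve_right hx) h)
  obtain ⟨y, d, hy, hd, hyd⟩ := h1
  obtain ⟨R, hR, y', d', hy', hd', hyd'⟩ := hF
  haveI := hR.nor
  have habR := Fr.ab bNA hp hq hpq hTp hTq hNA R hR hy' hd' hyd'
  have habS := Fr.ab bNA hq hp hpq.symm hTq hTp hNA.symm S hS hy hd hyd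
  have hA : ¬ DD p G ⊓ DD q G ≤ R := by
    intro h
    refine hyd' (h (Subgroup.mem_inf.2 ⟨?_, mem_DD hy' d'⟩))
    exact mul_mem (DD_normal.conj_mem _ hd' y') (inv_mem hd')
  have hB : ¬ DD p G ⊓ DD q G ≤ S := by
    intro h
    refine hyd (h (Subgroup.mem_inf.2 ⟨mem_DD hy d, ?_⟩))
    exact mul_mem (DD_normal.conj_mem _ hd y) (inv_mem hd)
  obtain ⟨x, hx, hxR, hxS⟩ := exists_not_mem_two hA hB
  rw [Subgroup.mem_inf] at hx
  rcases hNA x with h | h
  · exact notRF_of_top hp hTp R hR habR hx.1 hxR (rf_mk h R)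
  · exact notRF_of_top hq hTq S hS habS hx.2 hxS (rf_mk h S)

end Cfsg.Agent.H544.CS
end

-- part: H544/CS/Cyc
section
prune_inst 0xd0006304540000000000008031002000200000920020000190400000090c8100204509002000020010282a90200c0020010000c00028000020000800400001200003208090180c0010000000a081180c00000000000000000000000000000004000000000
set_option linter.all false
open scoped Cfsg.Agent.FastGrp

/-!
# Cyclic top factors
-/

set_option autoImplicit false

namespace Cfsg.Agent.H544.CS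

open Subgroup Cfsg.Agent.H532.Thr
open scoped Pointwise

universe u v

/-- `D` is cyclic modulo `R` -/
def CycMod {G : Type*} [Group G] (D R : Subgroup G) : Prop := ∃ c ∈ D, ∀ y ∈ D, ∃ k : ℤ, y * (c ^ k)⁻¹ ∈ R

/-- a subgroup mapped into a cyclic group -/
theorem cyc_of_map {G : Type*} [Group G] {K : Type*} [Group K] (f : G →* K) (D : Subgroup G) (z : K)
    (h : ∀ x ∈ D, f x ∈ zpowers z) : ∃ c ∈ D, ∀ y ∈ D, ∃ k : ℤ, f (y * (c ^ k)⁻¹) = 1 := by
  have h1 : D.map f ≤ zpowers z := by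
    rintro _ ⟨x, hx, rfl⟩
    exact h x hx
  have h2 : IsCyclic (D.map f) := by
    have : IsCyclic (zpowers z) := inferInstance
    exact isCyclic_of_injective (Subgroup.inclusion h1) (Subgroup.inclusion_injective h1)
  obtain ⟨⟨_, c, hc, rfl⟩, hg⟩ := h2.exists_generator
  refine ⟨c, hc, fun y hy => ?_⟩
  obtain ⟨k, hk⟩ := mem_zpowers_iff.1 (hg ⟨f y, y, hy, rfl⟩)
  refine ⟨k, ?_⟩
  have h3 : (f c) ^ k = f y := congrArg Subtype.val hk
  rw [map_mul, map_inv, map_zpow, h3, mul_inv_cancel]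

/-- commutators lie in `Y` -/
theorem comm_mem_of_cyc {G : Type*} [Group G] {Y : Subgroup G} [hY : Y.Normal] {g : G}
    (hg : ∀ x : G, ∃ k : ℤ, x * (g ^ k)⁻¹ ∈ Y) (x y : G) : x * y * x⁻¹ * y⁻¹ ∈ Y := by
  obtain ⟨k, hk⟩ := hg x
  obtain ⟨l, hl⟩ := hg y
  have key : ∀ (x : G) (k : ℤ), x * (g ^ k)⁻¹ ∈ Y → (x : G ⧸ Y) = (g : G ⧸ Y) ^ k := by
    intro x k h
    rw [← QuotientGroup.eq_one_iff] at h
    simp only [QuotientGroup.mk_mul, QuotientGroup.mk_inv, QuotientGroup.mk_zpow] at h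
    exact mul_inv_eq_one.1 h
  rw [← QuotientGroup.eq_one_iff]
  simp only [QuotientGroup.mk_mul, QuotientGroup.mk_inv]
  rw [key x k hk, key y l hl, ← zpow_add, add_comm, zpow_add]
  group

/-- **Chief factors of semilinear groups are cyclic.** -/
theorem GL1.cycMod {G : Type u} [Group G] {H : Type v} [Group H] (φ : G →* H) {W : Subgroup H} [W.Normal]
    (hW : GL1 W) {D S : Subgroup G} (hD : D.Normal) (hT : Top D S)
    (hDS : ∀ x ∈ D, φ x ∈ centralizer (W : Set H) → x ∈ S) : CycMod D S := by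
  obtain ⟨Y, hY, hCY, ⟨c, hc, hc2⟩, ⟨g, hg⟩, -⟩ := hW
  haveI := hT.nor
  haveI hYn : (Y.comap φ).Normal := hY.comap φ
  rcases hT.max ((D ⊓ Y.comap φ) ⊔ S) inferInstance le_sup_right (sup_le inf_le_left hT.le) with h1 | h1
  · have h2 : D ⊓ Y.comap φ ≤ S := by
      rw [← h1]; exact le_sup_left
    obtain ⟨d, hd, h3⟩ := cyc_of_map ((QuotientGroup.mk' Y).comp φ) D (g : H ⧸ Y) (by
      intro x _
      obtain ⟨k, hk⟩ := hg (φ x)
      refine mem_zpowers_iff.2 ⟨k, ?_⟩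
      rw [← QuotientGroup.eq_one_iff] at hk
      simp only [QuotientGroup.mk_mul, QuotientGroup.mk_inv, QuotientGroup.mk_zpow] at hk
      exact (mul_inv_eq_one.1 hk).symm)
    refine ⟨d, hd, fun y hy => ?_⟩
    obtain ⟨k, hk⟩ := h3 y hy
    refine ⟨k, h2 (Subgroup.mem_inf.2 ⟨mul_mem hy (inv_mem (zpow_mem hd k)), ?_⟩)⟩
    rw [mem_comap]
    exact (QuotientGroup.eq_one_iff _).1 hk
  · haveI : (centralizer (W : Set H)).Normal := Subgroup.normal_centralizer
    obtain ⟨d, hd, h3⟩ := cyc_of_map ((QuotientGroup.mk' (centralizer (W : Set H))).comp φ) (D ⊓ Y.comap φ)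
      (c : H ⧸ centralizer (W : Set H)) (by
        intro x hx
        obtain ⟨k, hk⟩ := hc2 (φ x) (Subgroup.mem_inf.1 hx).2
        refine mem_zpowers_iff.2 ⟨k, ?_⟩
        rw [← QuotientGroup.eq_one_iff] at hk
        simp only [QuotientGroup.mk_mul, QuotientGroup.mk_inv, QuotientGroup.mk_zpow] at hk
        exact (mul_inv_eq_one.1 hk).symm)
    have hdD := (Subgroup.mem_inf.1 hd).1
    refine ⟨d, hdD, fun y hy => ?_⟩
    rw [← h1] at hy
    obtain ⟨y', hy', r, hr, rfl⟩ := mem_sup_of_normal_right.1 hy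
    obtain ⟨k, hk⟩ := h3 y' hy'
    refine ⟨k, ?_⟩
    have h4 : y' * (d ^ k)⁻¹ ∈ S :=
      hDS _ (mul_mem (Subgroup.mem_inf.1 hy').1 (inv_mem (zpow_mem hdD k))) ((QuotientGroup.eq_one_iff _).1 hk)
    have e : y' * r * (d ^ k)⁻¹ = (y' * (d ^ k)⁻¹) * (d ^ k * r * (d ^ k)⁻¹) := by group
    rw [e]
    exact mul_mem h4 (hT.nor.conj_mem r hr _)

variable {G : Type u} [Group G] [Finite G] {p q t : ℕ}

/-- a cyclic top factor is centralised by `q` -/
theorem cent_of_cyc (hp : p.Prime) (hq : q.Prime) (hTp : TA p G) (R : Subgroup G) (hR : Top (DD p G) R)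
    (hcov : ∀ x : G, ¬ RF p x → RF q x) (hc : CycMod (DD p G) R) :
    ∀ y d : G, PEl q y → d ∈ DD p G → y * d * y⁻¹ * d⁻¹ ∈ R := by
  haveI := hR.nor
  haveI := Fact.mk hq
  obtain ⟨c, hc, h1⟩ := hc
  have h2 : ∀ x ∈ DD p (G ⧸ R), ∃ k : ℤ, x = (c : G ⧸ R) ^ k := by
    intro x hx
    obtain ⟨d, hd, rfl⟩ := exists_of_mem_DD hp R hx
    obtain ⟨k, hk⟩ := h1 d hd
    refine ⟨k, ?_⟩
    rw [← QuotientGroup.eq_one_iff] at hk
    simp only [QuotientGroup.mk_mul, QuotientGroup.mk_inv, QuotientGroup.mk_zpow] at hk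
    exact mul_inv_eq_one.1 hk
  have hab : Ab (DD p (G ⧸ R)) := by
    intro x hx y hy
    obtain ⟨k, rfl⟩ := h2 x hx
    obtain ⟨l, rfl⟩ := h2 y hy
    rw [← zpow_add, add_comm, zpow_add]
  have hmin := hR.minN hp
  have hc1 : (c : G ⧸ R) ≠ 1 := by
    intro h
    apply hmin.2.1
    rw [eq_bot_iff]
    intro x hx
    obtain ⟨k, rfl⟩ := h2 x hx
    rw [h, one_zpow]; exact one_mem _
  have h3 : ¬ RF p (c : G ⧸ R) := (hTp.quo hp R).notRF hp hab hmin (mk_mem_DD hp R hc) hc1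
  have h4 : RF q (c : G ⧸ R) := rf_mk (hcov c fun h => h3 (rf_mk h R)) R
  obtain ⟨Q, hQ⟩ := (RF_iff hq).1 h4
  rw [mem_CP] at hQ
  haveI : (centralizer (DD p (G ⧸ R) : Set (G ⧸ R))).Normal := Subgroup.normal_centralizer
  have h5 : (Q : Subgroup (G ⧸ R)) ≤ centralizer (DD p (G ⧸ R) : Set (G ⧸ R)) := by
    intro y hy
    rw [mem_centralizer_iff]
    intro x hx
    obtain ⟨k, rfl⟩ := h2 x hx
    have : Commute y (c : G ⧸ R) := hQ y hy
    exact ((this.zpow_right k).eq).symm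
  intro y d hy hd
  have h6 : (y : G ⧸ R) ∈ centralizer (DD p (G ⧸ R) : Set (G ⧸ R)) := by
    obtain ⟨Q', hQ'⟩ := (hy.map (QuotientGroup.mk' R)).exists_sylow
    obtain ⟨e, rfl⟩ := MulAction.exists_smul_eq (G ⧸ R) Q Q'
    have h7 := h5 (mem_smul_sylow.1 hQ')
    have h8 := (inferInstance : (centralizer (DD p (G ⧸ R) : Set (G ⧸ R))).Normal).conj_mem _ h7 e
    have e1 : e * (e⁻¹ * (QuotientGroup.mk' R) y * e) * e⁻¹ = (y : G ⧸ R) := by
      show e * (e⁻¹ * (y : G ⧸ R) * e) * e⁻¹ = _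
      group
    rwa [e1] at h8
  exact (mem_cent_DD_quo hp R).1 h6 d hd

/-- semilinear structure from `F(p,q)` -/
theorem Fr.gl (bGL : BoxGL.{u}) (hp : p.Prime) (hq : q.Prime) (hpq : p ≠ q) (hTp : TA p G) (hTq : TA q G)
    (hNA : NAdj p q G) (R : Subgroup G) [R.Normal] (hR : Top (DD p G) R) (hab : Ab (DD p (G ⧸ R))) {y d : G}
    (hy : PEl q y) (hd : d ∈ DD p G) (h : y * d * y⁻¹ * d⁻¹ ∉ R) : GL1 (DD p (G ⧸ R)) := by
  have hmin := hR.minN hp
  obtain ⟨K, hK, hK1, ⟨n, hK2⟩, hK3, -⟩ := (hTq.quo hq R).exists_K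
  have hmove : (y : G ⧸ R) * (d : G ⧸ R) ≠ d * y := by
    intro h1
    apply h
    rw [← QuotientGroup.eq_one_iff]
    simp only [QuotientGroup.mk_mul, QuotientGroup.mk_inv]
    rw [h1]; group
  have hVK : DD p (G ⧸ R) ≤ K := by
    rcases hmin.2.2 (DD p (G ⧸ R) ⊓ K) inferInstance inf_le_left with h1 | h1
    · exfalso
      apply hmove
      have h2 : (y : G ⧸ R) * d * (y : G ⧸ R)⁻¹ * (d : G ⧸ R)⁻¹ ∈ DD p (G ⧸ R) ⊓ K :=
        Subgroup.mem_inf.2 ⟨mul_mem (DD_normal.conj_mem _ (mk_mem_DD hp R hd) _) (inv_mem (mk_mem_DD hp R hd)), hK3 _ _⟩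
      rw [h1, mem_bot, mul_inv_eq_one, mul_inv_eq_iff_eq_mul] at h2
      exact h2
    · rw [← h1]; exact inf_le_right
  refine bGL (G ⧸ R) p q hp hq hpq (hTp.quo hp R) hab hmin (fun x hx => hNA.cov R x hx) K ⊤ hVK _root_.le_top hK1
    ⟨n, by rw [relIndex_top_right, hK2]⟩ (y : G ⧸ R) (mem_top _) (hy.map (QuotientGroup.mk' R))
    ⟨(d : G ⧸ R), mk_mem_DD hp R hd, hmove⟩

/-- **T2.** -/
theorem Fr.inf_le (bNA : BoxNA.{u}) (ht : t.Prime) (hp : p.Prime) (htp : t ≠ p) (hTt : TA t G)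
    (hTp : TA p G) (hNA : NAdj t p G) (R : Subgroup G) [R.Normal] (hR : Top (DD t G) R) {y d : G}
    (hy : PEl p y) (hd : d ∈ DD t G) (h : y * d * y⁻¹ * d⁻¹ ∉ R) (S : Subgroup G) (hS : Top (DD p G) S) :
    ∀ x ∈ DD p G, (x : G ⧸ R) ∈ centralizer (DD t (G ⧸ R) : Set (G ⧸ R)) → x ∈ S := by
  have hab := Fr.ab bNA ht hp htp hTt hTp hNA R hR hy hd h
  have hmin := hR.minN ht
  have htS : DD t G ≤ S := Fr.le_top bNA ht hp htp hTt hTp hNA ⟨R, hR, y, d, hy, hd, h⟩ S hS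
  haveI := hS.nor
  haveI hCn : (centralizer (DD t (G ⧸ R) : Set (G ⧸ R))).Normal := Subgroup.normal_centralizer
  let D₀ : Subgroup G := DD p G ⊓ (centralizer (DD t (G ⧸ R) : Set (G ⧸ R))).comap (QuotientGroup.mk' R)
  haveI : D₀.Normal := by
    haveI := hCn.comap (QuotientGroup.mk' R)
    exact inferInstanceAs (DD p G ⊓ (centralizer (DD t (G ⧸ R) : Set (G ⧸ R))).comap (QuotientGroup.mk' R)).Normal
  suffices D₀ ≤ S by
    intro x hx hx2
    exact this (Subgroup.mem_inf.2 ⟨hx, hx2⟩)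
  by_contra hcon
  have hsup : S ⊔ D₀ = DD p G := by
    rcases hS.max (S ⊔ D₀) inferInstance le_sup_left (sup_le hS.le inf_le_left) with h1 | h1
    · exfalso
      apply hcon
      rw [← h1]
      exact le_sup_right
    · exact h1
  obtain ⟨z, hz, hz2⟩ := (hTp.quo hp S).exists_notRF hp (hS.minN hp).2.1
  obtain ⟨x, hx, rfl⟩ := exists_of_mem_DD hp S hz
  rw [← hsup] at hx
  obtain ⟨s, hs, x₀, hx₀, rfl⟩ := mem_sup_of_normal_left.1 hx
  have e1 : ((s * x₀ : G) : G ⧸ S) = (x₀ : G ⧸ S) := by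
    rw [QuotientGroup.mk_mul, (QuotientGroup.eq_one_iff s).2 hs, one_mul]
  rw [e1] at hz2
  have hxc : (x₀ : G ⧸ R) ∈ centralizer (DD t (G ⧸ R) : Set (G ⧸ R)) := (Subgroup.mem_inf.1 hx₀).2
  obtain ⟨w, hw, hwR⟩ := SetLike.not_le_iff_exists.1 (fun h1 => hR.ne (le_antisymm hR.le h1) : ¬ DD t G ≤ R)
  rcases (hTt.quo ht R).prod_trick ht hab hmin hxc (mk_mem_DD ht R hw)
    (fun h1 => hwR ((QuotientGroup.eq_one_iff w).1 h1)) with h1 | h1
  · exact hz2 (rf_mk ((hNA x₀).resolve_left fun h2 => h1 (rf_mk h2 R)) S)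
  · have h3 : RF p (w * x₀) := (hNA (w * x₀)).resolve_left fun h2 => h1 (rf_mk h2 R)
    have e2 : ((w * x₀ : G) : G ⧸ S) = (x₀ : G ⧸ S) := by
      rw [QuotientGroup.mk_mul, (QuotientGroup.eq_one_iff w).2 (htS hw), one_mul]
    have h4 := rf_mk h3 S
    rw [e2] at h4
    exact hz2 h4

/-- `F(t,p)` : all top factors of `[G,P]` are cyclic -/
theorem Fr.cyc (bNA : BoxNA.{u}) (bGL : BoxGL.{u}) (ht : t.Prime) (hp : p.Prime) (htp : t ≠ p) (hTt : TA t G)
    (hTp : TA p G) (hNA : NAdj t p G) (hF : Fr t p G) (S : Subgroup G) (hS : Top (DD p G) S) : CycMod (DD p G) S := by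
  obtain ⟨R, hR, y, d, hy, hd, h⟩ := hF
  haveI := hR.nor
  have hab := Fr.ab bNA ht hp htp hTt hTp hNA R hR hy hd h
  exact GL1.cycMod (QuotientGroup.mk' R) (Fr.gl bGL ht hp htp hTt hTp hNA R hR hab hy hd h) DD_normal hS
    (Fr.inf_le bNA ht hp htp hTt hTp hNA R hR hy hd h S hS)

/-- **no directed path of length two** -/
theorem Fr.not_Fr (bNA : BoxNA.{u}) (bGL : BoxGL.{u}) (ht : t.Prime) (hp : p.Prime) (hq : q.Prime) (htp : t ≠ p)
    (hTt : TA t G) (hTp : TA p G) (hNA : NAdj t p G) (hNA' : NAdj p q G) (hF : Fr t p G) : ¬ Fr p q G := by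
  rintro ⟨S, hS, y, d, hy, hd, h⟩
  exact h (cent_of_cyc hp hq hTp S hS (fun x hx => (hNA' x).resolve_left hx)
    (Fr.cyc bNA bGL ht hp htp hTt hTp hNA hF S hS) y d hy hd)

end Cfsg.Agent.H544.CS
end

-- part: H544/CS/Step
section
prune_inst 0xf01027045422000000000080310024002000009200200001b0400000010c8101a04509003040020011282e30280e8020030000c9422800002a008a0040040120040220c09008100001000040e881180c00000000000000000000000000000004000000000
set_option linter.all false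
open scoped Cfsg.Agent.FastGrp

/-!
# Two steps in the semilinear situation
-/

set_option autoImplicit false

namespace Cfsg.Agent.H544.CS

open Subgroup Cfsg.Agent.H532.Thr
open scoped Pointwise

universe u v

variable {G : Type u} [Group G] [Finite G] {p q t b : ℕ}

/-- If all elements outside a proper normal subgroup `C` are `q`-central, then no `q'`-element lies outside `C`
(`q` of field type on `V = [G,T]`). -/
theorem stepZ (bBL : BoxBL.{u}) (ht : t.Prime) (hq : q.Prime) (htq : t ≠ q) (hTt : TA t G) (hTq : TA q G)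
    (hab : Ab (DD t G)) (hmin : MinN (DD t G)) (hcov : ∀ x : G, ¬ RF t x → RF q x) {y₀ v₀ : G} (hy₀ : PEl q y₀)
    (hv₀ : v₀ ∈ DD t G) (hmove : y₀ * v₀ ≠ v₀ * y₀) (C : Subgroup G) [C.Normal] (hC : ∀ x, x ∉ C → RF q x) {z : G}
    (hzC : z ∉ C) (hz : ¬ q ∣ orderOf z) : False := by
  haveI := Fact.mk hq
  haveI hCVn : (centralizer (DD t G : Set G)).Normal := Subgroup.normal_centralizer
  obtain ⟨CV, hCV⟩ : ∃ CV : Subgroup G, CV = centralizer (DD t G : Set G) := ⟨_, rfl⟩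
  haveI : CV.Normal := by rw [hCV]; exact hCVn
  have hDC : DD q G ≤ C := hTq.DD_le_of_compl hq C hC
  -- every element of the quotient by `CV`
  have hCVC : CV ≤ C := by
    by_contra hcon
    obtain ⟨x₀, hx₀, hx₀C⟩ := SetLike.not_le_iff_exists.1 hcon
    have h1 : DD q G ≤ CV := by
      rw [← DD_quo_eq_bot hq CV]
      by_contra hne
      obtain ⟨x, hx, hx2⟩ := (hTq.quo hq CV).exists_notRF hq hne
      obtain ⟨d, hd, rfl⟩ := exists_of_mem_DD hq CV hx
      apply hx2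
      have h2 : RF q (x₀ * d) := hC _ fun h => hx₀C ((mul_mem_cancel_right (hDC hd)).1 h)
      have h3 := rf_mk h2 CV
      rwa [QuotientGroup.mk_mul, (QuotientGroup.eq_one_iff x₀).2 hx₀, one_mul] at h3
    have hv1 : v₀ ≠ 1 := by
      rintro rfl
      exact hmove (by rw [mul_one, one_mul])
    obtain ⟨Q', hQ'⟩ := (RF_iff hq).1 (hcov v₀ (hTt.notRF ht hab hmin hv₀ hv1))
    obtain ⟨Q₁, hQ₁⟩ := hy₀.exists_sylow
    obtain ⟨g, rfl⟩ := MulAction.exists_smul_eq G Q' Q₁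
    have hy' := mem_smul_sylow.1 hQ₁
    obtain ⟨y', hy'e⟩ : ∃ y', y' = g⁻¹ * y₀ * g := ⟨_, rfl⟩
    rw [← hy'e] at hy'
    have h2 := (mem_CP.1 hQ') y' hy'
    have h3 : y' * g * y'⁻¹ * g⁻¹ ∈ CV := h1 (mem_DD (PEl.of_mem hy') g)
    have h4 := inv_mem h3
    have e1 : y₀ = (y' * g * y'⁻¹ * g⁻¹)⁻¹ * y' := by
      have : y₀ = g * y' * g⁻¹ := by rw [hy'e]; group
      rw [this]; group
    rw [hCV, mem_centralizer_iff] at h4
    have h5 := h4 v₀ hv₀
    apply hmove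
    rw [e1, mul_assoc, h2, ← mul_assoc, ← h5, mul_assoc]
  obtain ⟨Q, hQ⟩ := (RF_iff hq).1 (hC z hzC)
  refine bBL G t q ht hq htq hTt hab hmin hcov hTq Q ?_ z hz (fun y hy => ((mem_CP.1 hQ) y hy).symm) ?_
  · obtain ⟨Q₁, hQ₁⟩ := hy₀.exists_sylow
    obtain ⟨g, rfl⟩ := MulAction.exists_smul_eq G Q Q₁
    refine ⟨g⁻¹ * y₀ * g, mem_smul_sylow.1 hQ₁, g⁻¹ * v₀ * g, ?_, ?_⟩
    · have := DD_normal.conj_mem v₀ hv₀ g⁻¹
      rwa [inv_inv] at this
    · intro h
      apply hmove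
      calc y₀ * v₀ = g * (g⁻¹ * y₀ * g * (g⁻¹ * v₀ * g)) * g⁻¹ := by group
        _ = g * (g⁻¹ * v₀ * g * (g⁻¹ * y₀ * g)) * g⁻¹ := by rw [h]
        _ = v₀ * y₀ := by group
  · intro g hg y hy
    rw [← hCV] at hg ⊢
    have hsurj := QuotientGroup.mk'_surjective CV
    let PX : Sylow q (G ⧸ CV) := Q.mapSurjective hsurj
    have hPX : ∀ w, w ∈ PX ↔ ∃ y ∈ Q, (y : G ⧸ CV) = w := fun w => Iff.rfl
    have h1 : (z : G ⧸ CV) ∈ CP PX := by
      rw [mem_CP]
      intro w hw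
      obtain ⟨y, hy, rfl⟩ := (hPX w).1 hw
      rw [← QuotientGroup.mk_mul, ← QuotientGroup.mk_mul, (mem_CP.1 hQ) y hy]
    have h2 : (g : G ⧸ CV) ∈ CP PX := by
      refine (hTq.quo hq CV).coset hq PX h1 ?_ ?_
      · intro x hx
        obtain ⟨d, hd, hdx⟩ := exists_of_mem_DD hq CV hx
        have e : x = ((z * d : G) : G ⧸ CV) := by
          rw [QuotientGroup.mk_mul, hdx, mul_inv_cancel_left]
        rw [e]
        exact rf_mk (hC _ fun h => hzC ((mul_mem_cancel_right (hDC hd)).1 h)) CV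
      · rw [← QuotientGroup.eq_one_iff] at hg
        simp only [QuotientGroup.mk_mul, QuotientGroup.mk_inv] at hg
        rw [mul_inv_eq_one, mul_inv_eq_iff_eq_mul] at hg
        exact hg
    have h3 := (mem_CP.1 h2) (y : G ⧸ CV) ((hPX _).2 ⟨y, hy, rfl⟩)
    rw [← QuotientGroup.eq_one_iff]
    simp only [QuotientGroup.mk_mul, QuotientGroup.mk_inv]
    rw [← h3]; group

/-- **Kernel type.** If some `b`-element acts on `V = [G,T]` like a non-trivial element of `Y`, then `b`-central elements are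
`t`-central. -/
theorem kernelType (ht : t.Prime) (hb : b.Prime) (hTt : TA t G) (hab : Ab (DD t G)) (hmin : MinN (DD t G))
    {Y : Subgroup G} (hY : Y.Normal)
    (hsemi : ∀ y ∈ Y, ∀ v ∈ DD t G, v ≠ 1 → y * v = v * y → y ∈ centralizer (DD t G : Set G)) {β : G} (hβY : β ∈ Y)
    (hβ : PEl b β) (hβc : β ∉ centralizer (DD t G : Set G)) {x : G} (hx : RF b x) : RF t x := by
  haveI := Fact.mk hb
  haveI hCVn : (centralizer (DD t G : Set G)).Normal := Subgroup.normal_centralizer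
  obtain ⟨Q', hQ'⟩ := (RF_iff hb).1 hx
  obtain ⟨Q₁, hQ₁⟩ := hβ.exists_sylow
  obtain ⟨g, rfl⟩ := MulAction.exists_smul_eq G Q' Q₁
  have hβ1 := mem_smul_sylow.1 hQ₁
  obtain ⟨γ, hγ⟩ : ∃ γ, γ = g⁻¹ * β * g := ⟨_, rfl⟩
  rw [← hγ] at hβ1
  have hγY : γ ∈ Y := by
    have := hY.conj_mem β hβY g⁻¹
    rwa [inv_inv, ← hγ] at this
  have hγc : γ ∉ centralizer (DD t G : Set G) := by
    intro h
    apply hβc
    have := hCVn.conj_mem γ h g
    have e : g * γ * g⁻¹ = β := by rw [hγ]; group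
    rwa [e] at this
  have hγx : γ * x = x * γ := (mem_CP.1 hQ') γ hβ1
  have hfix : ∀ v ∈ DD t G, γ * v = v * γ → v = 1 := by
    intro v hv h
    by_contra hv1
    exact hγc (hsemi γ hγY v hv hv1 h)
  -- the map `v ↦ γ⁻¹ v⁻¹ γ v` is bijective
  have hsurj : ∀ w ∈ DD t G, ∃ v ∈ DD t G, γ⁻¹ * v⁻¹ * γ * v = w := by
    let φ : DD t G → DD t G := fun v => ⟨γ⁻¹ * (v : G)⁻¹ * γ * v, by
      have := DD_normal.conj_mem _ (inv_mem v.2) γ⁻¹
      rw [inv_inv] at this
      exact mul_mem this v.2⟩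
    have hinj : Function.Injective φ := by
      intro v w hvw
      have h1 : γ⁻¹ * (v : G)⁻¹ * γ * v = γ⁻¹ * (w : G)⁻¹ * γ * w := congrArg Subtype.val hvw
      have h2 : (w : G) * (v : G)⁻¹ = 1 := by
        apply hfix _ (mul_mem w.2 (inv_mem v.2))
        -- w⁻¹... 
        have h3 : γ * ((w : G) * (v : G)⁻¹) = (w : G) * (v : G)⁻¹ * γ := by
          have hc1 : (w : G)⁻¹ * (v : G) = (v : G) * (w : G)⁻¹ := hab _ (inv_mem w.2) _ v.2
          have hc2 : (w : G) * (v : G)⁻¹ = (v : G)⁻¹ * (w : G) := hab _ w.2 _ (inv_mem v.2)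
          have h4 : (v : G)⁻¹ * γ * v = (w : G)⁻¹ * γ * w := by
            have := congrArg (fun z => γ * z) h1
            simpa [mul_assoc] using this
          calc γ * ((w : G) * (v : G)⁻¹) = (w : G) * ((w : G)⁻¹ * γ * w) * (v : G)⁻¹ := by group
            _ = (w : G) * ((v : G)⁻¹ * γ * v) * (v : G)⁻¹ := by rw [h4]
            _ = (w : G) * (v : G)⁻¹ * γ := by group
        exact h3
      exact Subtype.ext (mul_inv_eq_one.1 h2).symm
    have hs : Function.Surjective φ := Finite.surjective_of_injective hinj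
    intro w hw
    obtain ⟨v, hv⟩ := hs ⟨w, hw⟩
    exact ⟨v, v.2, congrArg Subtype.val hv⟩
  obtain ⟨T⟩ : Nonempty (Sylow t G) := inferInstance
  obtain ⟨c, hc, d, hd, hcd⟩ := hTt.decomp ht T γ
  obtain ⟨v, hv, hvd⟩ := hsurj d⁻¹ (inv_mem hd)
  have e1 : v⁻¹ * γ * v = c := by
    have : v⁻¹ * γ * v = γ * (γ⁻¹ * v⁻¹ * γ * v) := by group
    rw [this, hvd, hcd]; group
  rw [hTt.RF_iff ht T]
  refine ⟨v, hv, ?_⟩
  obtain ⟨c₁, hc₁, d₁, hd₁, h1⟩ := hTt.decomp ht T (v⁻¹ * x * v)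
  have hcomm : c * (c₁ * d₁) = (c₁ * d₁) * c := by
    rw [← h1, ← e1]
    calc v⁻¹ * γ * v * (v⁻¹ * x * v) = v⁻¹ * (γ * x) * v := by group
      _ = v⁻¹ * (x * γ) * v := by rw [hγx]
      _ = _ := by group
  have h2 : c₁⁻¹ * (c * c₁ * c⁻¹) = d₁ * (c * d₁ * c⁻¹)⁻¹ := by
    have h3 : (c * c₁ * c⁻¹) * (c * d₁ * c⁻¹) = c₁ * d₁ := by
      calc (c * c₁ * c⁻¹) * (c * d₁ * c⁻¹) = (c * (c₁ * d₁)) * c⁻¹ := by group
        _ = ((c₁ * d₁) * c) * c⁻¹ := by rw [hcomm]
        _ = c₁ * d₁ := by group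
    rw [inv_mul_eq_iff_eq_mul, ← mul_assoc, ← h3]; group
  have h3 : d₁ * (c * d₁ * c⁻¹)⁻¹ ∈ DD t G ⊓ CP T := by
    refine Subgroup.mem_inf.2 ⟨mul_mem hd₁ (inv_mem (DD_normal.conj_mem _ hd₁ c)), ?_⟩
    rw [← h2]
    exact mul_mem (inv_mem hc₁) (mul_mem (mul_mem hc hc₁) (inv_mem hc))
  rw [hTt.inf_CP ht hab hmin T, mem_bot, mul_inv_eq_one] at h3
  have h4 : γ * (v * d₁ * v⁻¹) = (v * d₁ * v⁻¹) * γ := by
    have hγ' : γ = v * c * v⁻¹ := by rw [← e1]; group
    have h5 : c * d₁ = d₁ * c := by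
      have : d₁ * c = c * d₁ * c⁻¹ * c := by rw [← h3]
      rw [this]; group
    rw [hγ']
    calc v * c * v⁻¹ * (v * d₁ * v⁻¹) = v * (c * d₁) * v⁻¹ := by group
      _ = v * (d₁ * c) * v⁻¹ := by rw [h5]
      _ = _ := by group
  have h5 := hfix _ (DD_normal.conj_mem _ hd₁ v) h4
  have h6 : d₁ = 1 := by
    have : d₁ = v⁻¹ * (v * d₁ * v⁻¹) * v := by group
    rw [this, h5]; group
  rw [h1, h6, mul_one]
  exact hc₁

/-- version of `DD_le_of_cent` with the covering hypothesis on the quotient -/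
theorem DD_le_of_cent' (hp : p.Prime) (hq : q.Prime) (hTp : TA p G) (hTq : TA q G) (R : Subgroup G) [R.Normal]
    (hR : Top (DD p G) R) (hcov : ∀ x : G ⧸ R, ¬ RF p x → RF q x)
    (hc : ∀ y d : G, PEl q y → d ∈ DD p G → y * d * y⁻¹ * d⁻¹ ∈ R) : DD q G ≤ R := by
  rw [← DD_quo_eq_bot hq R]
  obtain ⟨Q⟩ : Nonempty (Sylow q (G ⧸ R)) := inferInstance
  refine (hTq.quo hq R).DD_bot_of_normal hq Q ?_
  refine (hTp.quo hp R).kernel_normal hp hq (hR.minN hp) hcov ?_ Q
  intro y hy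
  obtain ⟨x, hx, rfl⟩ := hy.lift_mk hq R
  rw [mem_cent_DD_quo hp R]
  exact fun d hd => hc x d hx hd

/-- the Sylow `q`-subgroup is normal modulo `R` if the `q`-elements centralise `[G,P]/R` -/
theorem sylow_normal_of_cent (hp : p.Prime) (hq : q.Prime) (hTp : TA p G) (R : Subgroup G) [R.Normal]
    (hR : Top (DD p G) R) (hcov : ∀ x : G ⧸ R, ¬ RF p x → RF q x)
    (hc : ∀ y d : G, PEl q y → d ∈ DD p G → y * d * y⁻¹ * d⁻¹ ∈ R) (Q : Sylow q (G ⧸ R)) :
    (Q : Subgroup (G ⧸ R)).Normal := by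
  refine (hTp.quo hp R).kernel_normal hp hq (hR.minN hp) hcov ?_ Q
  intro y hy
  obtain ⟨x, hx, rfl⟩ := hy.lift_mk hq R
  rw [mem_cent_DD_quo hp R]
  exact fun d hd => hc x d hx hd

end Cfsg.Agent.H544.CS
end

-- part: H39/CsT1
section
prune_inst 0xd0102304402200000000008011002400000000920020000190000000000c8101a00109003000020011282a20000e8020010000c90208000020008a0040040120040220c01000100001000040e881180c00000000000000000000000000000004000000000
set_option linter.all false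
open scoped Cfsg.Agent.FastGrp

/-!
# Two lemmas for S4308 (helper39, pieces of helper544)

* `t1` : `D / S` cyclic, all elements of `D` outside `S` are `b`-central: `S` has a normal `b`-complement `M` and `D / M`
  is abelian;
* `exists_top_b` : a `b`-chief factor on top of `D / M` abelian.
-/

set_option autoImplicit false

namespace Cfsg.Agent.H39.CsT1

open Subgroup Cfsg.Agent.H532.Thr Cfsg.Agent.H544.CS
open scoped Pointwise

universe u

variable {G : Type u} [Group G] [Finite G] {b : ℕ}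

/-- a `b`-central element centralises an `S`-conjugate of the given Sylow subgroup of the normal subgroup `S` -/
theorem claim_one (hb : b.Prime) (S : Subgroup G) [S.Normal] (Q : Sylow b S) {x : G} (hx : RF b x) :
    ∃ s ∈ S, ∀ y ∈ Q, ((y : G) * (s⁻¹ * x * s) = (s⁻¹ * x * s) * y) := by
  haveI := Fact.mk hb
  obtain ⟨P, hP⟩ := (RF_iff hb).1 hx
  rw [mem_CP] at hP
  obtain ⟨P₁, hP₁⟩ := Sylow.exists_comap_subtype_eq Q
  obtain ⟨g, hg⟩ := MulAction.exists_smul_eq G P₁ P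
  -- the Sylow subgroup `P ∩ S`
  obtain ⟨s, hs⟩ := MulAction.exists_smul_eq S Q ((MulAut.conjNormal g : MulAut S) • Q)
  refine ⟨s, s.2, fun y hy => ?_⟩
  have h1 : s * y * s⁻¹ ∈ s • Q := by
    rw [mem_smul_sylow]
    have e : s⁻¹ * (s * y * s⁻¹) * s = y := by group
    rwa [e]
  rw [hs] at h1
  have h2 : (MulAut.conjNormal g : MulAut S)⁻¹ • (s * y * s⁻¹) ∈ Q := by
    have h3 : s * y * s⁻¹ ∈ (MulAut.conjNormal g : MulAut S) • (Q : Subgroup S) := h1
    rwa [Subgroup.mem_pointwise_smul_iff_inv_smul_mem] at h3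
  have h4 : (MulAut.conjNormal g : MulAut S)⁻¹ • (s * y * s⁻¹) ∈ (P₁ : Subgroup G).comap S.subtype := by
    rw [hP₁]; exact h2
  have h5 : g⁻¹ * ((s : G) * y * (s : G)⁻¹) * g ∈ P₁ := by
    rw [mem_comap] at h4
    have e : S.subtype ((MulAut.conjNormal g : MulAut S)⁻¹ • (s * y * s⁻¹)) = g⁻¹ * ((s : G) * y * (s : G)⁻¹) * g := by
      rw [← map_inv, MulAut.smul_def, Subgroup.coe_subtype, MulAut.conjNormal_apply]
      simp
    rw [e] at h4
    exact h4
  have h6 : (s : G) * y * (s : G)⁻¹ ∈ P := by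
    rw [← hg, mem_smul_sylow]
    exact h5
  have h7 := hP _ h6
  calc (y : G) * ((s : G)⁻¹ * x * s) = (s : G)⁻¹ * (((s : G) * y * (s : G)⁻¹) * x) * s := by group
    _ = (s : G)⁻¹ * (x * ((s : G) * y * (s : G)⁻¹)) * s := by rw [h7]
    _ = ((s : G)⁻¹ * x * s) * y := by group

/-- a normal subgroup of `S` of `b`-power index and order prime to `b` is normal in `G` -/
theorem normal_map (hb : b.Prime) (S : Subgroup G) [hS : S.Normal] (K : Subgroup S) [K.Normal]
    (h1 : ¬ b ∣ Nat.card K) (h2 : ∃ n, K.index = b ^ n) : (K.map S.subtype).Normal := by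
  constructor
  rintro _ ⟨x, hx, rfl⟩ g
  have hy : g * (x : G) * g⁻¹ ∈ S := hS.conj_mem x x.2 g
  refine ⟨⟨g * (x : G) * g⁻¹, hy⟩, ?_, rfl⟩
  set y : S := ⟨g * (x : G) * g⁻¹, hy⟩ with hydef
  have ho : orderOf y = orderOf x := by
    rw [hydef, Subgroup.orderOf_mk, ← MulAut.conj_apply, MulEquiv.orderOf_eq, Subgroup.orderOf_coe]
  have hox : orderOf x ∣ Nat.card K := by
    have h3 := orderOf_dvd_natCard (⟨x, hx⟩ : K)
    rwa [Subgroup.orderOf_mk] at h3
  obtain ⟨n, hn⟩ := h2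
  have h3 : y ^ b ^ n ∈ K := by
    rw [← hn]
    exact pow_index_mem K y
  have hcop : (orderOf y).Coprime (b ^ n) := by
    rw [ho]
    apply Nat.Coprime.pow_right
    rw [Nat.coprime_comm, Nat.Prime.coprime_iff_not_dvd hb]
    exact fun h => h1 (h.trans hox)
  obtain ⟨m, hm⟩ := exists_pow_eq_self_of_coprime (n := b ^ n) (x := y) hcop.symm
  rw [← hm]
  exact pow_mem h3 m

/-- **T1.** -/
theorem t1 (hb : b.Prime) (D S : Subgroup G) [D.Normal] [hSn : S.Normal]
    (hSD : S ≤ D) (hne : S ≠ D) (hcyc : CycMod D S) (h : ∀ x ∈ D, x ∉ S → RF b x) :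
    ∃ M : Subgroup G, M.Normal ∧ M ≤ S ∧ ¬ b ∣ Nat.card M ∧ (∃ n, M.relIndex S = b ^ n) ∧
      ∀ x ∈ D, ∀ y ∈ D, x * y * x⁻¹ * y⁻¹ ∈ M := by
  haveI := Fact.mk hb
  obtain ⟨Q⟩ : Nonempty (Sylow b S) := inferInstance
  obtain ⟨g, hgD, hgS⟩ : ∃ g ∈ D, g ∉ S := by
    by_contra hcon
    push Not at hcon
    exact hne (le_antisymm hSD hcon)
  set C : Subgroup G := centralizer (((Q : Subgroup S).map S.subtype : Subgroup G) : Set G) with hC
  have memC : ∀ x : G, x ∈ C ↔ ∀ y ∈ Q, (y : G) * x = x * y := by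
    intro x
    rw [hC, mem_centralizer_iff]
    constructor
    · intro h1 y hy
      exact h1 _ ⟨y, hy, rfl⟩
    · rintro h1 _ ⟨y, hy, rfl⟩
      exact h1 y hy
  have c1 : ∀ x ∈ D, x ∉ S → ∃ n ∈ S, n⁻¹ * x * n ∈ C := by
    intro x hx hxS
    obtain ⟨s, hs, h1⟩ := claim_one hb S Q (h x hx hxS)
    exact ⟨s, hs, (memC _).2 h1⟩
  have hcos : ∀ x, g⁻¹ * x ∈ S → x ∈ D ∧ x ∉ S := by
    intro x hx
    have e : x = g * (g⁻¹ * x) := by group
    refine ⟨by rw [e]; exact mul_mem hgD (hSD hx), fun h1 => hgS ?_⟩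
    have e2 : g = x * (g⁻¹ * x)⁻¹ := by group
    rw [e2]
    exact mul_mem h1 (inv_mem hx)
  -- normalizer = centralizer in `S`
  have hTA : TA b S := by
    refine TA.of_norm hb Q ?_
    intro m hm
    rw [mem_centralizer_iff]
    intro y hy
    obtain ⟨n, hn, hnC⟩ := c1 g hgD hgS
    have hm' : ∀ y : S, y ∈ Q → m * y * m⁻¹ ∈ Q := by
      intro y hy
      exact (mem_normalizer_iff.1 hm y).1 hy
    have h1 : ((n * m)⁻¹ * g * (n * m) : G) ∈ C := by
      rw [memC]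
      intro y hy
      have h2 := (memC _).1 hnC (m * y * m⁻¹) (hm' y hy)
      simp only [Subgroup.coe_mul, InvMemClass.coe_inv] at h2
      calc (y : G) * ((n * (m : G))⁻¹ * g * (n * m)) = (m : G)⁻¹ * (((m : G) * y * (m : G)⁻¹) * (n⁻¹ * g * n)) * m := by
            group
        _ = (m : G)⁻¹ * ((n⁻¹ * g * n) * ((m : G) * y * (m : G)⁻¹)) * m := by rw [h2]
        _ = (n * (m : G))⁻¹ * g * (n * m) * y := by group
    have h3 := lemT S C g (fun x hx => c1 x (hcos x hx).1 (hcos x hx).2) (x := g) (by rw [inv_mul_cancel]; exact one_mem _)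
      hn (mul_mem hn m.2) hnC h1
    rw [inv_mul_cancel_left] at h3
    exact Subtype.ext ((memC _).1 h3 y hy)
  obtain ⟨K, hK, hK1, ⟨k, hK2⟩, hK3⟩ := hTA
  set M : Subgroup G := K.map S.subtype with hM
  haveI hMn : M.Normal := normal_map hb S K hK1 ⟨k, hK2⟩
  have hMS : M ≤ S := map_subtype_le _
  have hsub : M.subgroupOf S = K := by
    rw [hM, subgroupOf, comap_map_eq_self_of_injective S.subtype_injective]
  -- `S = M Q`
  have hKQ : K ⊔ (Q : Subgroup S) = ⊤ := by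
    rw [← index_eq_one]
    have h1 : (K ⊔ (Q : Subgroup S)).index ∣ b ^ k := by
      rw [← hK2]
      exact index_dvd_of_le le_sup_left
    have h2 : (K ⊔ (Q : Subgroup S)).index ∣ (Q : Subgroup S).index := index_dvd_of_le le_sup_right
    obtain ⟨j, -, hj⟩ := (Nat.dvd_prime_pow hb).1 h1
    rcases Nat.eq_zero_or_pos j with h3 | h3
    · rw [hj, h3, pow_zero]
    · exfalso
      apply Q.not_dvd_index
      refine Dvd.dvd.trans ?_ h2
      rw [hj]
      exact dvd_pow_self b h3.ne'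
  -- elements outside `S` centralise `S / M`
  have c2 : ∀ x ∈ D, x ∉ S → ∀ t ∈ S, x * t * x⁻¹ * t⁻¹ ∈ M := by
    intro x hx hxS t ht
    obtain ⟨s, hs, hsC⟩ := c1 x hx hxS
    rw [memC] at hsC
    -- `t = m (s q s⁻¹)`
    have h1 : (⟨s⁻¹ * t * s, mul_mem (mul_mem (inv_mem hs) ht) hs⟩ : S) ∈ K ⊔ (Q : Subgroup S) := by
      rw [hKQ]; exact mem_top _
    obtain ⟨m, hm, q, hq, hmq⟩ := mem_sup_of_normal_left.1 h1
    have h2 : (m : G) * q = s⁻¹ * t * s := congrArg Subtype.val hmq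
    have h3 := hsC q hq
    have h4 : t = s * (m * q) * s⁻¹ := by rw [h2]; group
    have h5 : (x * s) * q * (x * s)⁻¹ = s * q * s⁻¹ := by
      calc (x * s) * q * (x * s)⁻¹ = s * ((s⁻¹ * x * s) * q) * s⁻¹ * x⁻¹ := by group
        _ = s * (q * (s⁻¹ * x * s)) * s⁻¹ * x⁻¹ := by rw [h3]
        _ = s * q * s⁻¹ := by group
    have hmM : (m : G) ∈ M := ⟨m, hm, rfl⟩
    have h6 : x * t * x⁻¹ * t⁻¹ = ((x * s) * m * (x * s)⁻¹) * (s * m * s⁻¹)⁻¹ := by
      calc x * t * x⁻¹ * t⁻¹ = x * (s * (m * q) * s⁻¹) * x⁻¹ * (s * (m * q) * s⁻¹)⁻¹ := by rw [← h4]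
        _ = ((x * s) * m * (x * s)⁻¹) * ((x * s) * q * (x * s)⁻¹) * (s * (q : G)⁻¹ * s⁻¹) * (s * (m : G)⁻¹ * s⁻¹) := by group
        _ = ((x * s) * m * (x * s)⁻¹) * (s * q * s⁻¹) * (s * (q : G)⁻¹ * s⁻¹) * (s * (m : G)⁻¹ * s⁻¹) := by rw [h5]
        _ = ((x * s) * m * (x * s)⁻¹) * (s * m * s⁻¹)⁻¹ := by group
    rw [h6]
    exact mul_mem (hMn.conj_mem _ hmM _) (inv_mem (hMn.conj_mem _ hmM _))
  -- in the quotient
  have key : ∀ x y : G, x * y * x⁻¹ * y⁻¹ ∈ M ↔ (x : G ⧸ M) * (y : G ⧸ M) = y * x := by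
    intro x y
    rw [← QuotientGroup.eq_one_iff]
    simp only [QuotientGroup.mk_mul, QuotientGroup.mk_inv]
    rw [mul_inv_eq_one, mul_inv_eq_iff_eq_mul]
  have c3 : ∀ x ∈ D, ∀ t ∈ S, (x : G ⧸ M) * (t : G ⧸ M) = t * x := by
    intro x hx t ht
    by_cases hxS : x ∈ S
    · have h1 : Commute ((x * g : G) : G ⧸ M) (t : G ⧸ M) := (key _ _).1 (c2 (x * g) (mul_mem hx hgD)
        (fun h1 => hgS ((mul_mem_cancel_left hxS).1 h1)) t ht)
      have h2 : Commute (g : G ⧸ M) (t : G ⧸ M) := (key _ _).1 (c2 g hgD hgS t ht)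
      have h3 : (x : G ⧸ M) = ((x * g : G) : G ⧸ M) * (g : G ⧸ M)⁻¹ := by
        rw [QuotientGroup.mk_mul, mul_inv_cancel_right]
      rw [h3]
      exact (h1.mul_left h2.inv_left).eq
    · exact (key _ _).1 (c2 x hx hxS t ht)
  obtain ⟨c, hc, hcc⟩ := hcyc
  refine ⟨M, hMn, hMS, ?_, ⟨k, ?_⟩, fun x hx y hy => (key x y).2 ?_⟩
  · rw [hM, card_map_of_injective S.subtype_injective]
    exact hK1
  · rw [relIndex, hsub, hK2]
  · obtain ⟨i, hi⟩ := hcc x hx
    obtain ⟨j, hj⟩ := hcc y hy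
    have h1 : (x : G ⧸ M) = ((x * (c ^ i)⁻¹ : G) : G ⧸ M) * (c : G ⧸ M) ^ i := by
      rw [← QuotientGroup.mk_zpow, ← QuotientGroup.mk_mul, inv_mul_cancel_right]
    have h2 : (y : G ⧸ M) = ((y * (c ^ j)⁻¹ : G) : G ⧸ M) * (c : G ⧸ M) ^ j := by
      rw [← QuotientGroup.mk_zpow, ← QuotientGroup.mk_mul, inv_mul_cancel_right]
    have h3 : Commute (x : G ⧸ M) ((y * (c ^ j)⁻¹ : G) : G ⧸ M) := c3 x hx _ hj
    have h4 : Commute (c : G ⧸ M) ((x * (c ^ i)⁻¹ : G) : G ⧸ M) := c3 c hc _ hi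
    have h5 : Commute (x : G ⧸ M) ((c : G ⧸ M) ^ j) := by
      rw [h1]
      exact ((h4.zpow_left j).symm).mul_left (((Commute.refl _).zpow_zpow i j))
    rw [h2]
    exact (h3.mul_right h5).eq

/-- **a `b`-chief factor on top** -/
theorem exists_top_b (hb : b.Prime) (D M : Subgroup G) [hD' : D.Normal] [hMn : M.Normal]
    (hMD : M ≤ D) (hab : ∀ x ∈ D, ∀ y ∈ D, x * y * x⁻¹ * y⁻¹ ∈ M) (hM : ¬ b ∣ Nat.card M) (hD : b ∣ Nat.card D) :
    ∃ S, Top D S ∧ M ≤ S ∧ ∃ n, S.relIndex D = b ^ n := by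
  haveI := Fact.mk hb
  have key : ∀ x y : G, x * y * x⁻¹ * y⁻¹ ∈ M ↔ (x : G ⧸ M) * (y : G ⧸ M) = y * x := by
    intro x y
    rw [← QuotientGroup.eq_one_iff]
    simp only [QuotientGroup.mk_mul, QuotientGroup.mk_inv]
    rw [mul_inv_eq_one, mul_inv_eq_iff_eq_mul]
  have hpow : ∀ x ∈ D, ∀ y ∈ D, ∀ k : ℕ, (x ^ k ∈ M → y ^ k ∈ M → (x * y) ^ k ∈ M) := by
    intro x hx y hy k h1 h2
    have hc : Commute (x : G ⧸ M) (y : G ⧸ M) := (key x y).1 (hab x hx y hy)
    rw [← QuotientGroup.eq_one_iff] at h1 h2 ⊢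
    simp only [QuotientGroup.mk_mul, QuotientGroup.mk_pow] at h1 h2 ⊢
    rw [hc.mul_pow, h1, h2, one_mul]
  -- the subgroup of the `b'`-elements modulo `M`
  let B : Subgroup G :=
    { carrier := {x | x ∈ D ∧ ∃ m : ℕ, ¬ b ∣ m ∧ x ^ m ∈ M}
      one_mem' := ⟨one_mem _, 1, fun h => hb.one_lt.ne' (Nat.dvd_one.1 h), by rw [one_pow]; exact one_mem _⟩
      mul_mem' := by
        rintro x y ⟨hx, m, hm, hxm⟩ ⟨hy, n, hn, hyn⟩
        refine ⟨mul_mem hx hy, m * n, ?_, hpow x hx y hy _ ?_ ?_⟩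
        · rw [hb.dvd_mul, not_or]; exact ⟨hm, hn⟩
        · rw [pow_mul]; exact pow_mem hxm n
        · rw [mul_comm, pow_mul]; exact pow_mem hyn m
      inv_mem' := by
        rintro x ⟨hx, m, hm, hxm⟩
        exact ⟨inv_mem hx, m, hm, by rw [inv_pow]; exact inv_mem hxm⟩ }
  have memB : ∀ x, x ∈ B ↔ x ∈ D ∧ ∃ m : ℕ, ¬ b ∣ m ∧ x ^ m ∈ M := fun x => Iff.rfl
  have hBn : B.Normal := by
    constructor
    intro x hx g
    rw [memB] at hx ⊢
    obtain ⟨hx, m, hm, hxm⟩ := hx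
    exact ⟨hD'.conj_mem x hx g, m, hm, by rw [conj_pow]; exact hMn.conj_mem _ hxm g⟩
  have hBD : B ≤ D := fun x hx => ((memB x).1 hx).1
  have hMB : M ≤ B := fun x hx => (memB x).2 ⟨hMD hx, 1, fun h => hb.one_lt.ne' (Nat.dvd_one.1 h), by rwa [pow_one]⟩
  have hBne : B ≠ D := by
    intro h1
    obtain ⟨x, hx⟩ := exists_prime_orderOf_dvd_card' b hD
    have h2 : (x : G) ∈ B := by rw [h1]; exact x.2
    obtain ⟨-, m, hm, hxm⟩ := (memB _).1 h2
    have h3 : orderOf (x : G) = b := by rw [Subgroup.orderOf_coe, hx]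
    have h4 : orderOf ((x : G) ^ m) = b := by
      rw [Nat.Coprime.orderOf_pow, h3]
      rw [h3]
      exact (Nat.Prime.coprime_iff_not_dvd hb).2 hm
    apply hM
    rw [← h4]
    have h5 := orderOf_dvd_natCard (⟨(x : G) ^ m, hxm⟩ : M)
    rwa [Subgroup.orderOf_mk] at h5
  obtain ⟨S, hS, hBS⟩ := exists_top D B hBn hBD hBne
  refine ⟨S, hS, hMB.trans hBS, ?_⟩
  -- `D / S` is a `b`-group
  haveI := hS.nor
  have hp : IsPGroup b (D ⧸ S.subgroupOf D) := by
    intro x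
    obtain ⟨⟨x, hx⟩, rfl⟩ := QuotientGroup.mk_surjective x
    obtain ⟨a, m, hm, hn⟩ := Nat.exists_eq_pow_mul_and_not_dvd (orderOf_pos x).ne' b hb.ne_one
    refine ⟨a, ?_⟩
    rw [← QuotientGroup.mk_pow, QuotientGroup.eq_one_iff, mem_subgroupOf]
    change x ^ b ^ a ∈ S
    apply hBS
    refine (memB _).2 ⟨pow_mem hx _, m, hm, ?_⟩
    rw [← pow_mul, ← hn, pow_orderOf_eq_one]
    exact one_mem _
  obtain ⟨n, hn⟩ := IsPGroup.iff_card.1 hp
  exact ⟨n, by rw [relIndex, index_eq_card]; exact hn⟩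

end Cfsg.Agent.H39.CsT1
end

-- part: H544/CS/Uniq
section
prune_inst 0xd00027045422000000000080110020002000009200200001b0400000090c8101a00509003050020011282aa0600e8020030000c94000000020008a0040000120040320e0903c1c0011000040e881180c00000000000000000000000000000004000000000
set_option linter.all false
open scoped Cfsg.Agent.FastGrp

/-!
# The only non-neighbour
-/

set_option autoImplicit false

namespace Cfsg.Agent.H544.CS

open Subgroup Cfsg.Agent.H532.Thr
open scoped Pointwise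

universe u v

variable {G : Type u} [Group G] [Finite G] {p q t b s : ℕ}

/-- centralizer, modulo `S`, of a Sylow subgroup that is normal modulo `S` -/
def CQ (S : Subgroup G) [S.Normal] (Q : Sylow b (G ⧸ S)) : Subgroup G :=
  (centralizer ((Q : Subgroup (G ⧸ S)) : Set (G ⧸ S))).comap (QuotientGroup.mk' S)

theorem mem_CQ {S : Subgroup G} [S.Normal] {Q : Sylow b (G ⧸ S)} {x : G} : x ∈ CQ S Q ↔ (x : G ⧸ S) ∈ CP Q := Iff.rfl

theorem CQ_normal {S : Subgroup G} [S.Normal] {Q : Sylow b (G ⧸ S)} (hQ : (Q : Subgroup (G ⧸ S)).Normal) :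
    (CQ S Q).Normal := by
  haveI : (centralizer ((Q : Subgroup (G ⧸ S)) : Set (G ⧸ S))).Normal := Subgroup.normal_centralizer
  exact this.comap _

theorem le_CQ {S : Subgroup G} [S.Normal] (Q : Sylow b (G ⧸ S)) : S ≤ CQ S Q := by
  intro x hx
  rw [mem_CQ, (QuotientGroup.eq_one_iff x).2 hx]
  exact one_mem _

theorem mem_CP_of_normal (hb : b.Prime) {Q : Sylow b G} (hQ : (Q : Subgroup G).Normal) {x : G} (hx : RF b x) :
    x ∈ CP Q := by
  haveI := Fact.mk hb
  obtain ⟨Q', hQ'⟩ := (RF_iff hb).1 hx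
  obtain ⟨g, rfl⟩ := MulAction.exists_smul_eq G Q Q'
  rw [mem_CP] at hQ' ⊢
  intro y hy
  refine hQ' y ?_
  rw [mem_smul_sylow]
  have := hQ.conj_mem y hy g⁻¹
  rwa [inv_inv] at this

theorem notRF_of_not_mem_CQ (hb : b.Prime) {S : Subgroup G} [S.Normal] {Q : Sylow b (G ⧸ S)}
    (hQ : (Q : Subgroup (G ⧸ S)).Normal) {x : G} (hx : x ∉ CQ S Q) : ¬ RF b x :=
  fun h => hx (mem_CP_of_normal hb hQ (rf_mk h S))

theorem comm_mem_iff {R : Subgroup G} [R.Normal] {y d : G} :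
    y * d * y⁻¹ * d⁻¹ ∈ R ↔ (y : G ⧸ R) * (d : G ⧸ R) = d * y := by
  rw [← QuotientGroup.eq_one_iff]
  simp only [QuotientGroup.mk_mul, QuotientGroup.mk_inv]
  rw [mul_inv_eq_one, mul_inv_eq_iff_eq_mul]

/-- transfer of `stepZ` to `G` -/
theorem stepZ' (bBL : BoxBL.{u}) (ht : t.Prime) (hq : q.Prime) (htq : t ≠ q) (hTt : TA t G) (hTq : TA q G)
    (R : Subgroup G) [R.Normal] (hR : Top (DD t G) R)
    (hab : Ab (DD t (G ⧸ R))) (hcov : ∀ x : G ⧸ R, ¬ RF t x → RF q x) {y d : G} (hy : PEl q y)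
    (hd : d ∈ DD t G) (hyd : y * d * y⁻¹ * d⁻¹ ∉ R) (C : Subgroup G) [hCn : C.Normal] (hRC : R ≤ C)
    (hC : ∀ x, x ∉ C → RF q x) {z : G} (hzC : z ∉ C) (hz : ¬ q ∣ orderOf z) : False := by
  have hsurj := QuotientGroup.mk'_surjective R
  haveI : (C.map (QuotientGroup.mk' R)).Normal := hCn.map _ hsurj
  have key : ∀ x : G, (QuotientGroup.mk' R) x ∈ C.map (QuotientGroup.mk' R) → x ∈ C := by
    rintro x ⟨c, hc, hcx⟩
    have h1 : c⁻¹ * x ∈ R := QuotientGroup.eq.1 hcx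
    have e : x = c * (c⁻¹ * x) := by group
    rw [e]
    exact mul_mem hc (hRC h1)
  refine stepZ bBL ht hq htq (hTt.quo ht R) (hTq.quo hq R) hab (hR.minN ht) hcov (y₀ := (y : G ⧸ R))
    (v₀ := (d : G ⧸ R)) (hy.map (QuotientGroup.mk' R)) (mk_mem_DD ht R hd) (fun h => hyd (comm_mem_iff.2 h))
    (C.map (QuotientGroup.mk' R)) ?_ (z := QuotientGroup.mk' R z) (fun h => hzC (key z h)) ?_
  · intro x hx
    obtain ⟨x, rfl⟩ := hsurj x
    exact rf_mk (hC x fun h => hx ⟨x, h, rfl⟩) R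
  · exact fun h => hz (h.trans (orderOf_map_dvd _ z))

theorem Fr.ne_bot (hF : Fr t p G) : DD p G ≠ ⊥ := by
  obtain ⟨R, hR, y, d, hy, hd, h⟩ := hF
  intro h1
  apply h
  have h2 := mem_DD hy d
  rw [h1, mem_bot] at h2
  rw [h2]
  haveI := hR.nor
  exact one_mem _

/-- `b` divides the order of `[G,P]` -/
theorem dvd_of_notTA (bNA : BoxNA.{u}) (bGL : BoxGL.{u}) (bBL : BoxBL.{u}) (ht : t.Prime) (hp : p.Prime)
    (hb : b.Prime) (htp : t ≠ p) (hTt : TA t G) (hTp : TA p G) (hTb : ¬ TA b G) (hNA : NAdj t p G)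
    (hNAb : NAdj p b G) (hF : Fr t p G) : b ∣ Nat.card (DD p G) := by
  by_contra hD
  haveI := Fact.mk hb
  obtain ⟨S, hS, -⟩ := exists_top (DD p G) ⊥ inferInstance bot_le (Ne.symm hF.ne_bot)
  haveI := hS.nor
  have hcyc := Fr.cyc bNA bGL ht hp htp hTt hTp hNA hF S hS
  have hcent := cent_of_cyc hp hb hTp S hS (fun x hx => (hNAb x).resolve_left hx) hcyc
  have hTS := Fr.le_top bNA ht hp htp hTt hTp hNA hF S hS
  obtain ⟨Q⟩ : Nonempty (Sylow b G) := inferInstance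
  have hsurj := QuotientGroup.mk'_surjective S
  let Qb : Sylow b (G ⧸ S) := Q.mapSurjective hsurj
  have hQb : ∀ w, w ∈ Qb ↔ ∃ y ∈ Q, (y : G ⧸ S) = w := fun w => Iff.rfl
  have hQn : (Qb : Subgroup (G ⧸ S)).Normal :=
    sylow_normal_of_cent hp hb hTp S hS (fun x hx => hNAb.cov S x hx) hcent Qb
  haveI := CQ_normal (S := S) hQn
  -- `p`-elements lie in `CQ`
  have hPC : ∀ y : G, PEl p y → y ∈ CQ S Qb := by
    intro y hy
    rw [mem_CQ, mem_CP]
    intro w hw
    have h1 : (y : G ⧸ S) * w * (y : G ⧸ S)⁻¹ * w⁻¹ ∈ DD p (G ⧸ S) := mem_DD (hy.map (QuotientGroup.mk' S)) w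
    have h2 : (y : G ⧸ S) * w * (y : G ⧸ S)⁻¹ * w⁻¹ ∈ Qb := mul_mem (hQn.conj_mem w hw _) (inv_mem hw)
    have h3 : ¬ b ∣ Nat.card (DD p (G ⧸ S)) := by
      rw [← map_DD hp hsurj]
      exact fun h => hD (h.trans (card_map_dvd _ _))
    have h4 := PEl.eq_one_of_mem hb (PEl.of_mem h2) h3 h1
    rw [mul_inv_eq_one, mul_inv_eq_iff_eq_mul] at h4
    exact h4.symm
  -- an element of the normaliser of `Q`
  have hnorm : ¬ normalizer ((Q : Subgroup G) : Set G) ≤ centralizer ((Q : Subgroup G) : Set G) :=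
    fun h => hTb (TA.of_norm hb Q h)
  obtain ⟨g, hg, hgc⟩ := SetLike.not_le_iff_exists.1 hnorm
  have hgC : g ∉ CQ S Qb := by
    intro h
    apply hgc
    rw [mem_centralizer_iff]
    intro y hy
    have h1 := (mem_CP.1 (mem_CQ.1 h)) (y : G ⧸ S) ((hQb _).2 ⟨y, hy, rfl⟩)
    have h2 : g * y * g⁻¹ * y⁻¹ ∈ S := comm_mem_iff.2 h1.symm
    have h3 : g * y * g⁻¹ * y⁻¹ ∈ Q := mul_mem ((mem_normalizer_iff.1 hg y).1 hy) (inv_mem hy)
    have h4 := PEl.eq_one_of_mem hb (PEl.of_mem h3) (fun h => hD (h.trans (card_dvd_of_le hS.le))) h2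
    rw [mul_inv_eq_one, mul_inv_eq_iff_eq_mul] at h4
    exact h4.symm
  obtain ⟨m, n, h1, h2, h3⟩ := exists_parts hp g
  have hzC : g ^ n ∉ CQ S Qb := by
    intro h
    apply hgC
    rw [h1]
    exact mul_mem (hPC _ h2) h
  obtain ⟨R, hR, y, d, hy, hd, hyd⟩ := hF
  haveI := hR.nor
  exact stepZ' bBL ht hp htp hTt hTp R hR (Fr.ab bNA ht hp htp hTt hTp hNA R hR hy hd hyd)
    (fun x hx => hNA.cov R x hx) hy hd hyd (CQ S Qb) ((hR.le.trans hTS).trans (le_CQ Qb))
    (fun x hx => (hNAb x).resolve_right (notRF_of_not_mem_CQ hb hQn hx)) hzC h3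

theorem TA_of_relIndex (hb : b.Prime) (D M : Subgroup G) (hM : M.Normal) (hMD : M ≤ D) (hbM : ¬ b ∣ Nat.card M)
    (hi : ∃ n, M.relIndex D = b ^ n) (hab : ∀ x ∈ D, ∀ y ∈ D, x * y * x⁻¹ * y⁻¹ ∈ M) : TA b D := by
  refine ⟨M.subgroupOf D, inferInstance, ?_, hi, fun x y => ?_⟩
  · rw [Nat.card_congr (Subgroup.subgroupOfEquivOfLe hMD).toEquiv]
    exact hbM
  · rw [mem_subgroupOf]
    exact hab x x.2 y y.2

theorem relIndex_map_dvd {G H : Type*} [Group G] [Group H] (f : G →* H) (M D : Subgroup G) :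
    (M.map f).relIndex (D.map f) ∣ M.relIndex D := by
  rw [← relIndex_comap]
  exact relIndex_dvd_of_le_left D (le_comap_map f M)

/-- **Uniqueness.** If `F(t,p)` and `b` is not of type A and not adjacent to `p`, then `p` is the only non-neighbour of `b`
of type A. -/
theorem uniq (bNA : BoxNA.{u}) (bGL : BoxGL.{u}) (bBL : BoxBL.{u}) (ht : t.Prime) (hp : p.Prime)
    (hb : b.Prime) (hs : s.Prime) (htp : t ≠ p) (hsp : s ≠ p) (hTt : TA t G) (hTp : TA p G) (hTs : TA s G)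
    (hTb : ¬ TA b G) (hNA : NAdj t p G) (hNAb : NAdj p b G) (hNAs : NAdj s b G) (hF : Fr t p G)
    (hs1 : DD s G ≠ ⊥) : False := by
  haveI := Fact.mk hb
  have htb : t ≠ b := fun h => hTb (h ▸ hTt)
  have hpb : p ≠ b := fun h => hTb (h ▸ hTp)
  have hsb : s ≠ b := fun h => hTb (h ▸ hTs)
  have hbD := dvd_of_notTA bNA bGL bBL ht hp hb htp hTt hTp hTb hNA hNAb hF
  have hcycAll := Fr.cyc bNA bGL ht hp htp hTt hTp hNA hF
  have habAll : ∀ S : Subgroup G, Top (DD p G) S → ∀ x ∈ DD p G, x ∉ S → RF b x := by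
    intro S hS x hx hxS
    haveI := hS.nor
    obtain ⟨c, hc, h1⟩ := hcycAll S hS
    have h2 : ∀ x ∈ DD p (G ⧸ S), ∃ k : ℤ, x = (c : G ⧸ S) ^ k := by
      intro x hx
      obtain ⟨d, hd, rfl⟩ := exists_of_mem_DD hp S hx
      obtain ⟨k, hk⟩ := h1 d hd
      refine ⟨k, ?_⟩
      rw [← QuotientGroup.eq_one_iff] at hk
      simp only [QuotientGroup.mk_mul, QuotientGroup.mk_inv, QuotientGroup.mk_zpow] at hk
      exact mul_inv_eq_one.1 hk
    have hab : Ab (DD p (G ⧸ S)) := by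
      intro x hx y hy
      obtain ⟨k, rfl⟩ := h2 x hx
      obtain ⟨l, rfl⟩ := h2 y hy
      rw [← zpow_add, add_comm, zpow_add]
    exact (hNAb x).resolve_left fun h => notRF_of_top hp hTp S hS hab hx hxS (rf_mk h S)
  -- a top factor of `b`-power order
  obtain ⟨S, hS, nS, hnS⟩ : ∃ S, Top (DD p G) S ∧ ∃ n, S.relIndex (DD p G) = b ^ n := by
    obtain ⟨S₀, hS₀, -⟩ := exists_top (DD p G) ⊥ inferInstance bot_le (Ne.symm hF.ne_bot)
    haveI := hS₀.nor
    obtain ⟨M, hM, hMS, hbM, -, hMab⟩ := Cfsg.Agent.H39.CsT1.t1 hb (DD p G) S₀ hS₀.le hS₀.ne (hcycAll S₀ hS₀)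
      (habAll S₀ hS₀)
    obtain ⟨S, hS, -, hn⟩ := Cfsg.Agent.H39.CsT1.exists_top_b hb (DD p G) M (hMS.trans hS₀.le) hMab hbM hbD
    exact ⟨S, hS, hn⟩
  haveI := hS.nor
  have hTS : DD t G ≤ S := Fr.le_top bNA ht hp htp hTt hTp hNA hF S hS
  have hcentS := cent_of_cyc hp hb hTp S hS (fun x hx => (hNAb x).resolve_left hx) (hcycAll S hS)
  obtain ⟨M, hM, hMS, hbM, ⟨nM, hnM⟩, hMab⟩ := Cfsg.Agent.H39.CsT1.t1 hb (DD p G) S hS.le hS.ne (hcycAll S hS)
      (habAll S hS)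
  haveI := hM
  have hMD : M ≤ DD p G := hMS.trans hS.le
  have hMrel : M.relIndex (DD p G) = b ^ (nM + nS) := by
    rw [← relIndex_mul_relIndex M S (DD p G) hMS hS.le, hnM, hnS, pow_add]
  obtain ⟨R, hR, y, d, hy, hd, hyd⟩ := hF
  haveI := hR.nor
  have hF : Fr t p G := ⟨R, hR, y, d, hy, hd, hyd⟩
  have habR := Fr.ab bNA ht hp htp hTt hTp hNA R hR hy hd hyd
  have hgl := Fr.gl bGL ht hp htp hTt hTp hNA R hR habR hy hd hyd
  have hinf := Fr.inf_le bNA ht hp htp hTt hTp hNA R hR hy hd hyd S hS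
  have hRS : R ≤ S := hR.le.trans hTS
  -- the element `β`
  obtain ⟨x₀, hx₀, hx₀S⟩ := SetLike.not_le_iff_exists.1 (fun h1 => hS.ne (le_antisymm hS.le h1) : ¬ DD p G ≤ S)
  obtain ⟨β, hβ, hβD, hβS⟩ : ∃ β : G, PEl b β ∧ β ∈ DD p G ∧ β ∉ S := by
    have h1 : PEl b (QuotientGroup.mk' S x₀) := by
      refine ⟨nS, ?_⟩
      have h2 : (S.subgroupOf (DD p G)).Normal := inferInstance
      have h3 := pow_index_mem (S.subgroupOf (DD p G)) (⟨x₀, hx₀⟩ : DD p G)
      rw [show (S.subgroupOf (DD p G)).index = b ^ nS from hnS, mem_subgroupOf] at h3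
      exact (QuotientGroup.eq_one_iff (x₀ ^ b ^ nS)).2 h3
    obtain ⟨n, h2, h3⟩ := h1.lift hb
    refine ⟨x₀ ^ n, h2, pow_mem hx₀ n, fun h => hx₀S ?_⟩
    have h4 : QuotientGroup.mk' S (x₀ ^ n) = 1 := (QuotientGroup.eq_one_iff _).2 h
    rw [h3] at h4
    exact (QuotientGroup.eq_one_iff _).1 h4
  have hβc : (β : G ⧸ R) ∉ centralizer (DD t (G ⧸ R) : Set (G ⧸ R)) := fun h => hβS (hinf β hβD h)
  -- kernel type
  have hKT : ∀ x : G ⧸ R, RF b x → RF t x := by
    obtain ⟨Y, hY, -, -, ⟨g, hg⟩, hsemi⟩ := hgl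
    intro x hx
    have hβY : (β : G ⧸ R) ∈ Y := by
      have h1 : DD p (G ⧸ R) ≤ Y := DD_le fun y g _ => comm_mem_of_cyc hg y g
      exact h1 (mk_mem_DD hp R hβD)
    exact kernelType ht hb (hTt.quo ht R) habR (hR.minN ht) hY hsemi hβY (hβ.map (QuotientGroup.mk' R)) hβc hx
  have hcovs : ∀ x : G ⧸ R, ¬ RF t x → RF s x := by
    intro x hx
    obtain ⟨x, rfl⟩ := QuotientGroup.mk'_surjective R x
    exact rf_mk ((hNAs x).resolve_right fun h => hx (hKT _ (rf_mk h R))) R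
  -- (6a) the `s`-elements centralise `V`
  have h6a : ∀ y d : G, PEl s y → d ∈ DD t G → y * d * y⁻¹ * d⁻¹ ∈ R := by
    by_contra hcon
    push Not at hcon
    obtain ⟨y₁, d₁, hy₁, hd₁, hyd₁⟩ := hcon
    have hts : t ≠ s := by
      rintro rfl
      -- a `t`-element commutes with `V` modulo `R`? impossible: `b`-nonadjacent
      obtain ⟨Q⟩ : Nonempty (Sylow b (G ⧸ S)) := inferInstance
      have hnr : ∀ x : G ⧸ R, ¬ RF t x → RF t x := hcovs
      exact ((hTt.quo ht R).exists_notRF ht (hR.minN ht).2.1).elim fun x hx => hx.2 (hnr x hx.2)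
    -- the Sylow `b`-subgroup is normal modulo `S`
    obtain ⟨Qb⟩ : Nonempty (Sylow b (G ⧸ S)) := inferInstance
    have hQn : (Qb : Subgroup (G ⧸ S)).Normal :=
      sylow_normal_of_cent hp hb hTp S hS (fun x hx => hNAb.cov S x hx) hcentS Qb
    haveI := CQ_normal (S := S) hQn
    -- a `p`-element outside `CQ`
    have h1 : ∃ z : G, PEl p z ∧ z ∉ CQ S Qb := by
      by_contra hcon
      push Not at hcon
      obtain ⟨P⟩ : Nonempty (Sylow p G) := inferInstance
      have h2 : DD p G ≤ S := by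
        refine hTp.DD_le_of hp P fun y hy d hd => ?_
        have hyC := hcon y (PEl.of_mem hy)
        rw [mem_CQ, mem_CP] at hyC
        have h3 : (d : G ⧸ S) ∈ Qb := by
          have h4 : PEl b (d : G ⧸ S) := by
            refine ⟨nS, ?_⟩
            have h3 := pow_index_mem (S.subgroupOf (DD p G)) (⟨d, hd⟩ : DD p G)
            rw [show (S.subgroupOf (DD p G)).index = b ^ nS from hnS, mem_subgroupOf] at h3
            exact (QuotientGroup.eq_one_iff (d ^ b ^ nS)).2 h3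
          obtain ⟨Q', hQ'⟩ := h4.exists_sylow
          obtain ⟨g, rfl⟩ := MulAction.exists_smul_eq (G ⧸ S) Qb Q'
          have h5 := hQn.conj_mem _ (mem_smul_sylow.1 hQ') g
          have e : g * (g⁻¹ * (d : G ⧸ S) * g) * g⁻¹ = (d : G ⧸ S) := by group
          rwa [e] at h5
        exact comm_mem_iff.2 (hyC _ h3).symm
      exact hS.ne (le_antisymm hS.le h2)
    obtain ⟨z, hz, hzC⟩ := h1
    refine stepZ' bBL ht hs hts hTt hTs R hR habR hcovs hy₁ hd₁ hyd₁ (CQ S Qb) (hRS.trans (le_CQ Qb))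
      (fun x hx => (hNAs x).resolve_right (notRF_of_not_mem_CQ hb hQn hx)) hzC ?_
    -- `s` does not divide the order of a `p`-element
    intro hdvd
    obtain ⟨k, hk⟩ := hz
    have h2 : s ∣ p ^ k := hdvd.trans (orderOf_dvd_of_pow_eq_one hk)
    exact hsp ((Nat.prime_dvd_prime_iff_eq hs hp).1 (hs.dvd_of_dvd_pow h2))
  -- (6b)
  have h6b : DD s G ≤ R := DD_le_of_cent' ht hs hTt hTs R hR hcovs h6a
  -- (6c)
  have h6c : ∀ x ∈ DD t G, x ∉ R → RF s x := by
    intro x hx hxR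
    have h1 := notRF_of_top ht hTt R hR habR hx hxR
    exact (hNAs x).resolve_right fun h => h1 (hKT _ (rf_mk h R))
  -- (6d)
  have h6d : ∀ (R₃ : Subgroup G) [R₃.Normal], Top (DD s G) R₃ → ∀ x ∈ DD t G,
      (x : G ⧸ R₃) ∈ centralizer (DD s (G ⧸ R₃) : Set (G ⧸ R₃)) → x ∈ R := by
    intro R₃ _ hR₃ x hx hxc
    by_contra hxR
    have h1 : RF s (x : G ⧸ R₃) := rf_mk (h6c x hx hxR) R₃
    obtain ⟨P, hP⟩ := (RF_iff hs).1 h1
    have h2 : ∀ w ∈ DD s (G ⧸ R₃), w ∈ CP P := by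
      intro w hw
      refine (hTs.quo hs R₃).coset hs P hP ?_ ?_
      · intro x' hx'
        obtain ⟨w', hw', hww⟩ := exists_of_mem_DD hs R₃ hx'
        have e : x' = ((x * w' : G) : G ⧸ R₃) := by
          rw [QuotientGroup.mk_mul, hww, mul_inv_cancel_left]
        rw [e]
        refine rf_mk (h6c (x * w') (mul_mem hx (hR.le (h6b hw'))) fun h => hxR ?_) R₃
        exact (mul_mem_cancel_right (h6b hw')).1 h
      · exact (mem_centralizer_iff.1 hxc) w hw
    have h3 : DD s (G ⧸ R₃) ≤ ⊥ := (hTs.quo hs R₃).DD_le_of hs P (M := ⊥) fun y hy d hd => by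
      have := (mem_CP.1 (h2 d hd)) y hy
      rw [mem_bot, this]; group
    exact (hR₃.minN hs).2.1 (eq_bot_iff.2 h3)
  have hDtp : DD t G ≤ DD p G := hTS.trans hS.le
  have hDsp : DD s G ≤ DD p G := (h6b.trans hR.le).trans hDtp
  obtain ⟨v₁, hv₁, hv₁R⟩ := SetLike.not_le_iff_exists.1 (fun h1 => hR.ne (le_antisymm hR.le h1) : ¬ DD t G ≤ R)
  -- (6e)
  have h6e : DD s G ≤ M := by
    by_contra hcon
    obtain ⟨R₃, hR₃, hR₃'⟩ := exists_top (DD s G) (DD s G ⊓ M) inferInstance inf_le_left (by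
      intro h
      apply hcon
      rw [← h]; exact inf_le_right)
    haveI := hR₃.nor
    refine hv₁R (h6d R₃ hR₃ v₁ hv₁ ?_)
    rw [mem_cent_DD_quo hs R₃]
    intro d hd
    exact hR₃' (Subgroup.mem_inf.2 ⟨mul_mem (DD_normal.conj_mem d hd v₁) (inv_mem hd),
      hMab v₁ (hDtp hv₁) d (hDsp hd)⟩)
  -- (6f)
  obtain ⟨R₃, hR₃, -⟩ := exists_top (DD s G) ⊥ inferInstance bot_le (Ne.symm hs1)
  haveI := hR₃.nor
  have h6f : (β : G ⧸ R₃) ∉ centralizer (DD s (G ⧸ R₃) : Set (G ⧸ R₃)) := by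
    intro h
    apply hβc
    rw [mem_cent_DD_quo ht R]
    intro d hd
    refine h6d R₃ hR₃ _ (mul_mem (DD_normal.conj_mem d hd β) (inv_mem hd)) ?_
    haveI : (centralizer (DD s (G ⧸ R₃) : Set (G ⧸ R₃))).Normal := Subgroup.normal_centralizer
    have e : ((β * d * β⁻¹ * d⁻¹ : G) : G ⧸ R₃) = (β : G ⧸ R₃) * ((d : G ⧸ R₃) * (β : G ⧸ R₃)⁻¹ * (d : G ⧸ R₃)⁻¹) := by
      simp only [QuotientGroup.mk_mul, QuotientGroup.mk_inv, mul_assoc]
    rw [e]
    exact mul_mem h (this.conj_mem _ (inv_mem h) _)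
  have hNAs3 : ∀ x : G ⧸ R₃, ¬ RF s x → RF b x := fun x hx => hNAs.cov R₃ x hx
  have hsurj := QuotientGroup.mk'_surjective R₃
  have hDn : ((DD p G).map (QuotientGroup.mk' R₃)).Normal := DD_normal.map _ hsurj
  have hMn : (M.map (QuotientGroup.mk' R₃)).Normal := hM.map _ hsurj
  have hsM : DD s (G ⧸ R₃) ≤ M.map (QuotientGroup.mk' R₃) := by
    rw [← map_DD hs hsurj]
    exact map_mono h6e
  have hMD3 : M.map (QuotientGroup.mk' R₃) ≤ (DD p G).map (QuotientGroup.mk' R₃) := map_mono hMD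
  have hβD3 : (β : G ⧸ R₃) ∈ (DD p G).map (QuotientGroup.mk' R₃) := ⟨β, hβD, rfl⟩
  have hβ3 : PEl b (β : G ⧸ R₃) := hβ.map (QuotientGroup.mk' R₃)
  have hrel3 : ∃ n, (M.map (QuotientGroup.mk' R₃)).relIndex ((DD p G).map (QuotientGroup.mk' R₃)) = b ^ n := by
    have h1 : (M.map (QuotientGroup.mk' R₃)).relIndex ((DD p G).map (QuotientGroup.mk' R₃)) ∣ M.relIndex (DD p G) :=
      relIndex_map_dvd _ _ _
    rw [hMrel] at h1
    obtain ⟨m, -, hm⟩ := (Nat.dvd_prime_pow hb).1 h1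
    exact ⟨m, hm⟩
  have hbM3 : ¬ b ∣ Nat.card (M.map (QuotientGroup.mk' R₃)) := fun h => hbM (h.trans (card_map_dvd _ _))
  by_cases hna : Ab (DD s (G ⧸ R₃))
  · -- (6h)
    have h1 : ∃ v ∈ DD s (G ⧸ R₃), (β : G ⧸ R₃) * v ≠ v * (β : G ⧸ R₃) := by
      by_contra hcon
      push Not at hcon
      exact h6f (mem_centralizer_iff.2 fun v hv => (hcon v hv).symm)
    have hgl3 := bGL (G ⧸ R₃) s b hs hb hsb (hTs.quo hs R₃) hna (hR₃.minN hs) hNAs3
      (M.map (QuotientGroup.mk' R₃)) ((DD p G).map (QuotientGroup.mk' R₃)) hsM hMD3 hbM3 hrel3 _ hβD3 hβ3 h1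
    have hc := GL1.cycMod (QuotientGroup.mk' R₃) hgl3 (D := DD t G) (S := R) DD_normal hR
      (fun x hx hxc => h6d R₃ hR₃ x hx hxc)
    exact hyd (cent_of_cyc ht hp hTt R hR (fun x hx => (hNA x).resolve_left hx) hc y d hy hd)
  · -- (6g)
    have hTAb : TA b ((DD p G).map (QuotientGroup.mk' R₃)) := by
      refine TA_of_relIndex hb _ (M.map (QuotientGroup.mk' R₃)) hMn hMD3 hbM3 hrel3 ?_
      rintro _ ⟨x, hx, rfl⟩ _ ⟨y, hy, rfl⟩
      exact ⟨_, hMab x hx y hy, by simp⟩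
    have h1 := bNA (G ⧸ R₃) s b hs hb hsb (hTs.quo hs R₃) hna (hR₃.minN hs)
      ((DD p G).map (QuotientGroup.mk' R₃)) (hsM.trans hMD3) hTAb (fun x _ => hNAs.quo R₃ x) _ hβD3 hβ3
    exact h6f (mem_centralizer_iff.2 fun v hv => (h1 v hv).symm)

end Cfsg.Agent.H544.CS
end

-- part: H544/CS/Final
section
set_option linter.all false
open scoped Cfsg.Agent.FastGrp

/-!
# The complement of the prime graph on class sizes is bipartite
-/

set_option autoImplicit false

namespace Cfsg.Agent.H544.CS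

open Subgroup Cfsg.Agent.H532.Thr

universe u

variable {G : Type u} [Group G] [Finite G] {p q : ℕ}

theorem ne_bot_of_vertex (hp : p.Prime) (hv : ∃ x : G, ¬ RF p x) : DD p G ≠ ⊥ := by
  intro h
  obtain ⟨x, hx⟩ := hv
  apply hx
  obtain ⟨P⟩ : Nonempty (Sylow p G) := inferInstance
  refine (RF_iff hp).2 ⟨P, ?_⟩
  rw [mem_CP]
  intro y hy
  have h1 := mem_DD (PEl.of_mem hy) x
  rw [h, mem_bot, mul_inv_eq_one, mul_inv_eq_iff_eq_mul] at h1
  exact h1

/-- type A with an in-arrow -/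
def AU (G : Type u) [Group G] (p : ℕ) : Prop :=
  TA p G ∧ ∃ t : ℕ, t.Prime ∧ t ≠ p ∧ TA t G ∧ NAdj t p G ∧ Fr t p G

/-- the colouring -/
def Col (G : Type u) [Group G] : Set ℕ :=
  {p | AU G p ∨ (¬ TA p G ∧ ∀ a : ℕ, a.Prime → AU G a → ¬ NAdj a p G)}

theorem ta_or (hp : p.Prime) (hq : q.Prime) (hNA : NAdj p q G) : TA p G ∨ TA q G := by
  haveI := Fact.mk hp
  haveI := Fact.mk hq
  obtain ⟨P⟩ : Nonempty (Sylow p G) := inferInstance
  obtain ⟨Q⟩ : Nonempty (Sylow q G) := inferInstance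
  rcases Cfsg.Agent.H531.TwoPrimes.normalizer_le_or P Q hNA with h | h
  · exact Or.inl (TA.of_norm hp P h)
  · exact Or.inr (TA.of_norm hq Q h)

theorem aux_AA (bNA : BoxNA.{u}) (bGL : BoxGL.{u}) (hp : p.Prime) (hq : q.Prime)
    (hpq : p ≠ q) (hTp : TA p G) (hTq : TA q G) (hNA : NAdj p q G) (hF : Fr p q G) (h : p ∈ Col G ↔ q ∈ Col G) :
    False := by
  have h1 : q ∈ Col G := Or.inl ⟨hTq, p, hp, hpq, hTp, hNA, hF⟩
  rcases h.2 h1 with h2 | h2
  · obtain ⟨-, t, ht, htp, hTt, hNAt, hFt⟩ := h2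
    exact Fr.not_Fr bNA bGL ht hp hq htp hTt hTp hNAt hNA hFt hF
  · exact h2.1 hTp

theorem aux (bNA : BoxNA.{u}) (bGL : BoxGL.{u}) (bBL : BoxBL.{u}) (hp : p.Prime) (hq : q.Prime)
    (hpq : p ≠ q) (hTp : TA p G) (hNA : NAdj p q G) (hp1 : ∃ x : G, ¬ RF p x) (hq1 : ∃ x : G, ¬ RF q x)
    (h : p ∈ Col G ↔ q ∈ Col G) : False := by
  by_cases hTq : TA q G
  · rcases Fr_or hp hq hTp hTq hNA (ne_bot_of_vertex hp hp1) (ne_bot_of_vertex hq hq1) with hF | hF
    · exact aux_AA bNA bGL hp hq hpq hTp hTq hNA hF h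
    · exact aux_AA bNA bGL hq hp hpq.symm hTq hTp hNA.symm hF h.symm
  · by_cases hpC : p ∈ Col G
    · rcases hpC with h1 | h1
      · rcases h.1 (Or.inl h1) with h2 | h2
        · exact hTq h2.1
        · exact h2.2 p hp h1 hNA
      · exact h1.1 hTp
    · have hqC : q ∉ Col G := fun h1 => hpC (h.2 h1)
      have h1 : ∃ a : ℕ, a.Prime ∧ AU G a ∧ NAdj a q G := by
        by_contra hcon
        push Not at hcon
        exact hqC (Or.inr ⟨hTq, hcon⟩)
      obtain ⟨a, ha, hAU, hNAa⟩ := h1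
      have hpa : p ≠ a := by
        rintro rfl
        exact hpC (Or.inl hAU)
      obtain ⟨hTa, t, ht, hta, hTt, hNAt, hFt⟩ := hAU
      exact uniq bNA bGL bBL ht ha hq hp hta hpa hTt hTa hTp hTq hNAt hNAa hNA hFt (ne_bot_of_vertex hp hp1)

theorem main (bNA : BoxNA.{u}) (bGL : BoxGL.{u}) (bBL : BoxBL.{u}) (G : Type u) [Group G] [Finite G] :
    ∃ S : Set ℕ, ∀ p q : ℕ, p.Prime → q.Prime → p ≠ q →
      (∃ x : G, p ∣ (Subgroup.centralizer ({x} : Set G)).index) →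
      (∃ x : G, q ∣ (Subgroup.centralizer ({x} : Set G)).index) → (p ∈ S ↔ q ∈ S) →
      ∃ x : G, p * q ∣ (Subgroup.centralizer ({x} : Set G)).index := by
  refine ⟨Col G, fun p q hp hq hpq hp1 hq1 h => ?_⟩
  by_contra hcon
  push Not at hcon
  have hNA : NAdj p q G := by
    intro x
    by_contra h1
    simp only [RF, not_or, not_not] at h1
    exact hcon x (Nat.Coprime.mul_dvd_of_dvd_of_dvd ((Nat.coprime_primes hp hq).2 hpq) h1.1 h1.2)
  have hp2 : ∃ x : G, ¬ RF p x := hp1.imp fun x hx h => h hx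
  have hq2 : ∃ x : G, ¬ RF q x := hq1.imp fun x hx h => h hx
  rcases ta_or hp hq hNA with hT | hT
  · exact aux bNA bGL bBL hp hq hpq hT hNA hp2 hq2 h
  · exact aux bNA bGL bBL hq hp hpq.symm hT hNA.symm hq2 hp2 h.symm

end Cfsg.Agent.H544.CS

private theorem dce_03e45014f860 : _root_.True := by
  try have : _root_.True := by simp only [_root_.Cfsg.Agent.H532.Thr.RF.eq_1]
  exact _root_.True.intro
end

-- part: H532/NA
section
prune_inst 0xd000230404000000000000801100240020000092002000019000000000048101200109003000020011282a30200e8020020000c90000000020008a0040000120040220c01000100001000040e881180c00000000000000000000000000000004000000000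
set_option linter.all false
open scoped Cfsg.Agent.FastGrp

/-!
# Nonabelian `[G, P]` (piece (NA) of S4308)
-/

set_option autoImplicit false
set_option linter.unusedSectionVars false

namespace Cfsg.Agent.H532.NA

open Subgroup Cfsg.Agent.H532.Thr Cfsg.Agent.H544.CS
open scoped commutatorElement

universe u

variable {G : Type u} [Group G] [Finite G]

section Gen

/-- a nonabelian minimal normal subgroup is not solvable -/
theorem not_solvable {W : Subgroup G} (hmin : MinN W) (hna : ¬ Ab W) : ¬ Group.IsSolvable W := by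
  intro hs
  obtain ⟨hn, hne, hm⟩ := hmin
  have h1 : ((commutator W).map W.subtype).Normal := inferInstance
  rcases hm _ h1 (map_subtype_le _) with h | h
  · apply hna
    intro x hx y hy
    have h2 : (⁅(⟨x, hx⟩ : W), (⟨y, hy⟩ : W)⁆ : W) ∈ commutator W := commutator_mem_commutator (mem_top _) (mem_top _)
    have h3 : ((⁅(⟨x, hx⟩ : W), (⟨y, hy⟩ : W)⁆ : W) : G) ∈ (commutator W).map W.subtype := ⟨_, h2, rfl⟩
    rw [h, mem_bot] at h3
    have h4 : x * y * x⁻¹ * y⁻¹ = 1 := h3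
    have h5 : x * y * x⁻¹ = y := mul_inv_eq_one.1 h4
    exact mul_inv_eq_iff_eq_mul.1 h5
  · have hnt : Nontrivial W := (Subgroup.nontrivial_iff_ne_bot W).2 hne
    have h2 : commutator W < ⊤ := Group.IsSolvable.commutator_lt_top_of_nontrivial W
    apply h2.ne
    rw [eq_top_iff]
    intro x _
    have h3 : (x : G) ∈ (commutator W).map W.subtype := by rw [h]; exact x.2
    obtain ⟨y, hy, e⟩ := h3
    rwa [← Subtype.ext e]

/-- no nontrivial abelian subgroup of `W` is normalised by `W` -/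
theorem eq_bot_of_ab {W : Subgroup G} (hmin : MinN W) (hna : ¬ Ab W) {A : Subgroup G} (hAW : A ≤ W)
    (hA : ∀ w ∈ W, ∀ a ∈ A, w * a * w⁻¹ ∈ A) (hab : Ab A) : A = ⊥ := by
  have hn := hmin.1
  have hR : ((Cfsg.solvableRadical W).map W.subtype).Normal := inferInstance
  have hRb : (Cfsg.solvableRadical W).map W.subtype = ⊥ := by
    rcases hmin.2.2 _ hR (map_subtype_le _) with h | h
    · exact h
    · exfalso
      apply not_solvable hmin hna
      rw [← H459.Rad.rad_eq_top_iff, eq_top_iff]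
      intro x _
      have h3 : (x : G) ∈ (Cfsg.solvableRadical W).map W.subtype := by rw [h]; exact x.2
      obtain ⟨y, hy, e⟩ := h3
      rwa [← Subtype.ext e]
  have h1 : (A.subgroupOf W).Normal := by
    constructor
    intro x hx w
    rw [mem_subgroupOf] at hx ⊢
    exact hA w w.2 x hx
  have h2 : Group.IsSolvable (A.subgroupOf W) := Group.isSolvable_of_comm (by
    rintro ⟨⟨x, hxW⟩, hx⟩ ⟨⟨y, hyW⟩, hy⟩
    rw [mem_subgroupOf] at hx hy
    exact Subtype.ext (Subtype.ext (hab x hx y hy)))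
  have h3 := H459.Rad.le_rad h1 h2
  rw [eq_bot_iff, ← hRb]
  intro x hx
  exact ⟨⟨x, hAW hx⟩, h3 (mem_subgroupOf.2 hx), rfl⟩

/-- an element moving `W` whose `p`-th power does not -/
theorem exists_pow_moves {p : ℕ} {C : Subgroup G} {x : G} (hx : PEl p x) (hxC : x ∉ C) :
    ∃ j : ℕ, x ^ p ^ j ∉ C ∧ (x ^ p ^ j) ^ p ∈ C := by
  classical
  obtain ⟨k, hk⟩ := hx
  have hex : ∃ k : ℕ, x ^ p ^ k ∈ C := ⟨k, by rw [hk]; exact one_mem _⟩
  have hm := Nat.find_spec hex
  have hmin := fun k => Nat.find_min (m := k) hex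
  obtain ⟨m, hmdef⟩ : ∃ m, m = Nat.find hex := ⟨_, rfl⟩
  rw [← hmdef] at hm hmin
  cases m with
  | zero =>
    rw [pow_zero, pow_one] at hm
    exact absurd hm hxC
  | succ m =>
    refine ⟨m, hmin m (Nat.lt_succ_self m), ?_⟩
    rw [← pow_mul, ← pow_succ]
    exact hm

theorem PEl.pow' {p : ℕ} {x : G} (hx : PEl p x) (n : ℕ) : PEl p (x ^ n) := by
  obtain ⟨k, hk⟩ := hx
  exact ⟨k, by rw [← pow_mul, mul_comm, pow_mul, hk, one_pow]⟩

theorem DD_char {q : ℕ} (hq : q.Prime) : (DD q G).Characteristic := by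
  rw [Subgroup.characteristic_iff_map_eq]
  intro φ
  exact map_DD hq φ.surjective

end Gen

/-- the core: minimal subgroups in a quotient -/
theorem core (hFM : ∀ (K : Type u) [Group K] [Finite K] [IsSimpleGroup K], ¬ IsMulCommutative K → Cfsg.Agent.H531.FM K)
    {p q : ℕ} {a b : MulAut G} (B : Bas p q a b) (W : Subgroup G) (hW : INor a b W)
    (hWb : ∃ v ∈ W, b v ≠ v)
    (hab : ∀ A : Subgroup G, INor a b A → A ≤ W → Ab A → A = ⊥)
    (hWa : ∀ A : Subgroup G, INor a b A → A ≤ W → (∀ v ∈ A, a v = v) → A = ⊥) :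
    ∃ v ∈ W, ¬ Fxd a v ∧ ¬ Fxd b v := by
  obtain ⟨V, hVW, hV⟩ := (Set.toFinite {M : Subgroup G | INor a b M ∧ M ≤ W ∧ ∃ v ∈ M, b v ≠ v}).exists_le_minimal
    (a := W) ⟨hW, le_rfl, hWb⟩
  obtain ⟨hVi, -, hVb⟩ := hV.prop
  have hVn := hVi.norm
  have hVne : V ≠ ⊥ := by
    rintro rfl
    obtain ⟨v, hv, h⟩ := hVb
    rw [mem_bot] at hv
    rw [hv, map_one] at h
    exact h rfl
  have hmin : ∀ M : Subgroup G, INor a b M → M ≤ V → M = ⊥ ∨ M = V := by
    intro M hM hMV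
    by_contra hcon
    rw [not_or] at hcon
    obtain ⟨hMb, hMV'⟩ := hcon
    have hMn := hM.norm
    -- `b` is trivial on `M`
    have hbM : ∀ v ∈ M, b v = v := by
      by_contra h
      push Not at h
      exact hMV' (le_antisymm hMV (hV.le_of_le ⟨hM, hMV.trans hVW, h⟩ hMV))
    have hC : INor a b (V ⊓ centralizer (M : Set G)) :=
      ⟨inferInstance, hVi.a.inf (inv_centralizer hM.a), hVi.b.inf (inv_centralizer hM.b)⟩
    have hCV : V ⊓ centralizer (M : Set G) ≠ V := by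
      intro h
      apply hMb
      apply hab M hM (hMV.trans hVW)
      intro x hx y hy
      have h1 : y ∈ V ⊓ centralizer (M : Set G) := by rw [h]; exact hMV hy
      exact mem_centralizer_iff.1 (mem_inf.1 h1).2 x hx
    have hbC : ∀ v ∈ V ⊓ centralizer (M : Set G), b v = v := by
      by_contra h
      push Not at h
      exact hCV (le_antisymm inf_le_left (hV.le_of_le ⟨hC, inf_le_left.trans hVW, h⟩ inf_le_left))
    obtain ⟨v, hv, hbv⟩ := hVb
    apply hbv
    have h1 : res b V hVi.b = 1 := by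
      apply (B.copb.res hVi.b).eq_one (M := (V ⊓ centralizer (M : Set G)).subgroupOf V)
      · intro n
        rw [mem_subgroupOf]
        refine mem_inf.2 ⟨(n⁻¹ * res b V hVi.b n).2, ?_⟩
        rw [mem_centralizer_iff]
        intro w hw
        have h2 := B.centralizes hMn hbM hw (com_le_left (le_refl (com b)) (n : G))
        exact h2
      · intro x hx
        rw [mem_subgroupOf] at hx
        exact Subtype.ext (hbC x hx)
    exact congrArg Subtype.val (DFunLike.congr_fun h1 (⟨v, hv⟩ : V))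
  have hna : ∃ x ∈ V, ∃ y ∈ V, x * y ≠ y * x := by
    by_contra h
    push Not at h
    exact hVne (hab V hVi hVW h)
  have hta : ∃ v ∈ V, a v ≠ v := by
    by_contra h
    push Not at h
    exact hVne (hWa V hVi hVW h)
  obtain ⟨v, hv, h1, h2⟩ := H531.LemX.lemmaX
    (fun K _ _ _ h => hFM K fun h' => h fun x y => h'.is_comm.comm x y)
    B.hp B.hq B.hpq B.hpN B.hqN a b B.hab B.ha B.hb V hVi.a hVi.b
    (fun M h1 h2 h3 => hmin M ⟨h1, h2, h3⟩) hna hta hVb
  exact ⟨v, hVW hv, h1, h2⟩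

theorem perfect {W : Subgroup G} (hmin : MinN W) (hna : ¬ Ab W) {S : Subgroup G}
    (h : ∀ x ∈ W, ∀ y ∈ W, x * y * x⁻¹ * y⁻¹ ∈ S) : W ≤ S := by
  obtain ⟨hn, hne, hm⟩ := hmin
  have h1 : ((commutator W).map W.subtype).Normal := inferInstance
  have h0 : commutator W ≤ S.comap W.subtype := by
    rw [commutator_def, Subgroup.commutator_le]
    intro x _ y _
    exact h x x.2 y y.2
  rcases hm _ h1 (map_subtype_le _) with h | h
  · exfalso
    apply hna
    intro x hx y hy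
    have h2 : (⁅(⟨x, hx⟩ : W), (⟨y, hy⟩ : W)⁆ : W) ∈ commutator W := commutator_mem_commutator (mem_top _) (mem_top _)
    have h3 : ((⁅(⟨x, hx⟩ : W), (⟨y, hy⟩ : W)⁆ : W) : G) ∈ (commutator W).map W.subtype := ⟨_, h2, rfl⟩
    rw [h, mem_bot] at h3
    have h4 : x * y * x⁻¹ * y⁻¹ = 1 := h3
    have h5 : x * y * x⁻¹ = y := mul_inv_eq_one.1 h4
    exact mul_inv_eq_iff_eq_mul.1 h5
  · rw [← h, map_le_iff_le_comap]
    exact h0

theorem not_dvd_sup {p : ℕ} (hp : p.Prime) {W E : Subgroup G} [W.Normal] (h1 : ¬ p ∣ Nat.card W)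
    (h2 : ¬ p ∣ Nat.card E) : ¬ p ∣ Nat.card ↥(W ⊔ E) := by
  have e : Nat.card W * W.relIndex (W ⊔ E) = Nat.card ↥(W ⊔ E) := by
    rw [← Subgroup.relIndex_bot_left, ← Subgroup.relIndex_bot_left]
    exact Subgroup.relIndex_mul_relIndex _ _ _ bot_le le_sup_left
  rw [← e]
  intro h
  rcases hp.dvd_mul.1 h with h | h
  · exact h1 h
  · apply h2
    rw [relIndex_sup_left] at h
    exact h.trans (Subgroup.index_dvd_card _)

theorem na (hFM : ∀ (K : Type u) [Group K] [Finite K] [IsSimpleGroup K], ¬ IsMulCommutative K → Cfsg.Agent.H531.FM K)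
    {p q : ℕ} (hp : p.Prime) (hq : q.Prime) (hpq : p ≠ q) (hTA : TA p G) (hna : ¬ Ab (DD p G)) (hmin : MinN (DD p G))
    (N : Subgroup G) [N.Normal] (hDN : DD p G ≤ N) (hTN : TA q N) (hcov : ∀ x ∈ DD p G, RF p x ∨ RF q x)
    (y : G) (hyN : y ∈ N) (hyq : PEl q y) : ∀ v ∈ DD p G, y * v = v * y := by
  have := Fact.mk hp
  have := Fact.mk hq
  by_contra hcon
  push Not at hcon
  obtain ⟨v0, hv0, hyv0⟩ := hcon
  have hpW : ¬ p ∣ Nat.card (DD p G) := hTA.not_dvd
  obtain ⟨Kq, hKqn, hKq, -, hKqc, -⟩ := hTN.exists_K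
  obtain ⟨Kp, hKpn, hKp, -, hKpc, hKpD⟩ := hTA.exists_K
  have hqW : ¬ q ∣ Nat.card (DD p G) := by
    have h1 : DD p G ≤ Kq.map N.subtype := by
      apply perfect hmin hna
      intro x hx y hy
      exact ⟨_, hKqc ⟨x, hDN hx⟩ ⟨y, hDN hy⟩, rfl⟩
    intro h
    apply hKq
    have h2 := h.trans (card_dvd_of_le h1)
    rwa [card_map_of_injective N.subtype_injective] at h2
  obtain ⟨W, hW⟩ : ∃ W, W = DD p G := ⟨_, rfl⟩
  have hWn : W.Normal := by rw [hW]; infer_instance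
  have hdec := fun (P : Sylow p G) (g : G) => hTA.decomp hp P g
  have hRFp := fun (P : Sylow p G) (x : G) => hTA.RF_iff hp P (x := x)
  have hDle := fun (P : Sylow p G) (h : ∀ y ∈ P, ∀ d ∈ DD p G, y * d * y⁻¹ * d⁻¹ ∈ (⊥ : Subgroup G)) =>
    hTA.DD_le_of hp P h
  rw [← hW] at hna hmin hDN hcov hv0 hpW hqW hKpD hDle
  simp only [← hW] at hdec hRFp
  -- the group `N0`
  have hch := DD_char (G := N) hq
  have hEn : ((DD q N).map N.subtype).Normal := inferInstance
  have hEp : ¬ p ∣ Nat.card ((DD q N).map N.subtype) := by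
    have h1 : (DD q N).map N.subtype ≤ Kp := by
      rw [map_le_iff_le_comap]
      exact DD_le fun y g _ => hKpc y g
    exact fun h => hKp (h.trans (card_dvd_of_le h1))
  have hEq : ¬ q ∣ Nat.card ((DD q N).map N.subtype) := by
    rw [card_map_of_injective N.subtype_injective]
    exact hTN.not_dvd
  obtain ⟨E, hE⟩ : ∃ E, E = (DD q N).map N.subtype := ⟨_, rfl⟩
  rw [← hE] at hEn hEp hEq
  have hpN0 := not_dvd_sup hp hpW hEp
  have hqN0 := not_dvd_sup hq hqW hEq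
  obtain ⟨N0, hN0⟩ : ∃ N0, N0 = W ⊔ E := ⟨_, rfl⟩
  have hN0n : N0.Normal := by rw [hN0]; infer_instance
  rw [← hN0] at hpN0 hqN0
  have hWN0 : W ≤ N0 := by rw [hN0]; exact le_sup_left
  have hEN0 : E ≤ N0 := by rw [hN0]; exact le_sup_right
  -- the element `a`
  let P : Sylow p G := default
  obtain ⟨C, hC⟩ : ∃ C, C = centralizer (W : Set G) := ⟨_, rfl⟩
  have hCn : C.Normal := by rw [hC]; infer_instance
  have hmC : ∀ x, x ∈ C ↔ ∀ v ∈ W, v * x = x * v := fun x => by rw [hC]; exact mem_centralizer_iff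
  obtain ⟨a, haP, haC, hapC⟩ : ∃ a ∈ P, a ∉ C ∧ a ^ p ∈ C := by
    obtain ⟨a0, ha0, ha0C⟩ : ∃ a ∈ P, a ∉ C := by
      by_contra h
      push Not at h
      apply hmin.2.1
      rw [eq_bot_iff]
      apply hDle P
      intro y hy d hd
      have h1 := (hmC y).1 (h y hy) d hd
      rw [mem_bot, ← h1]; group
    obtain ⟨j, h1, h2⟩ := exists_pow_moves (PEl.of_mem ha0) ha0C
    exact ⟨_, pow_mem ha0 _, h1, h2⟩
  -- the element `b`
  obtain ⟨b, hbN, hbq, hbP, hbC, hbqC⟩ : ∃ b ∈ N, PEl q b ∧ b ∈ CP P ∧ b ∉ C ∧ b ^ q ∈ C := by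
    obtain ⟨c, hc, d, hd, hcd⟩ := hdec P y
    have hf : QuotientGroup.mk' W c = QuotientGroup.mk' W y := by
      rw [QuotientGroup.mk'_apply, QuotientGroup.mk'_apply, QuotientGroup.eq, hcd, inv_mul_cancel_left]
      exact hd
    obtain ⟨n, hn1, hn2⟩ := PEl.lift hq (f := QuotientGroup.mk' W) (x := c) (by rw [hf]; exact hyq.map _)
    have hw1 : (c ^ n)⁻¹ * y ∈ W := by
      rw [← QuotientGroup.eq]
      show QuotientGroup.mk' W (c ^ n) = QuotientGroup.mk' W y
      rw [hn2, hf]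
    have hcN : c ∈ N := by
      have e : c = y * d⁻¹ := by rw [hcd, mul_inv_cancel_right]
      rw [e]
      exact mul_mem hyN (inv_mem (hDN hd))
    have hb0C : c ^ n ∉ C := by
      intro h
      obtain ⟨w1, hw1'⟩ : ∃ w1, w1 = (c ^ n)⁻¹ * y := ⟨_, rfl⟩
      rw [← hw1'] at hw1
      have hyw : y = c ^ n * w1 := by rw [hw1', mul_inv_cancel_left]
      have hcomm : Commute (c ^ n) w1 := ((hmC _).1 h w1 hw1).symm
      have hw1q : PEl q w1 := by
        obtain ⟨k1, hk1⟩ := hyq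
        obtain ⟨k2, hk2⟩ := hn1
        refine ⟨k1 + k2, ?_⟩
        have e1 : y ^ q ^ (k1 + k2) = 1 := by rw [pow_add, pow_mul, hk1, one_pow]
        have e2 : (c ^ n) ^ q ^ (k1 + k2) = 1 := by rw [pow_add, mul_comm (q ^ k1), pow_mul, hk2, one_pow]
        rw [hyw, hcomm.mul_pow, e2, one_mul] at e1
        exact e1
      have hw1' : w1 = 1 := hw1q.eq_one_of_mem hq hqW hw1
      rw [hw1', mul_one] at hyw
      apply hyv0
      rw [hyw]
      exact ((hmC _).1 h v0 hv0).symm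
    obtain ⟨j, h1, h2⟩ := exists_pow_moves hn1 hb0C
    exact ⟨_, pow_mem (pow_mem hcN n) _, PEl.pow' hn1 _, pow_mem (pow_mem hc n) _, h1, h2⟩
  have hab : a * b = b * a := mem_CP.1 hbP a haP
  -- the quotient
  obtain ⟨Z, hZ⟩ : ∃ Z, Z = C.subgroupOf N0 := ⟨_, rfl⟩
  have hZn : Z.Normal := by rw [hZ]; infer_instance
  have hmZ : ∀ x : N0, x ∈ Z ↔ (x : G) ∈ C := fun x => by rw [hZ]; exact mem_subgroupOf
  have hinvZ : ∀ g : G, Inv (MulAut.conjNormal g : MulAut N0) Z := by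
    intro g
    apply Inv.of_le
    intro x hx
    rw [hmZ] at hx ⊢
    rw [MulAut.conjNormal_apply]
    exact hCn.conj_mem _ hx g
  have hpow : ∀ (g : G) (m : ℕ), g ^ m ∈ C → (Thr.quo (MulAut.conjNormal g : MulAut N0) Z (hinvZ g)) ^ m = 1 := by
    intro g m hm
    refine MulEquiv.ext fun x => ?_
    obtain ⟨n, rfl⟩ := QuotientGroup.mk_surjective x
    rw [quo_pow, ← map_pow]
    show _ = (n : N0 ⧸ Z)
    rw [QuotientGroup.eq, hmZ]
    show ((MulAut.conjNormal (g ^ m) n : N0) : G)⁻¹ * n ∈ C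
    rw [MulAut.conjNormal_apply]
    have e : (g ^ m * (n : G) * (g ^ m)⁻¹)⁻¹ * n = g ^ m * ((n : G)⁻¹ * (g ^ m)⁻¹ * n) := by group
    rw [e]
    have h1 := hCn.conj_mem _ (inv_mem hm) (n : G)⁻¹
    rw [inv_inv] at h1
    exact mul_mem hm h1
  have B : Bas p q (Thr.quo (MulAut.conjNormal a : MulAut N0) Z (hinvZ a))
      (Thr.quo (MulAut.conjNormal b : MulAut N0) Z (hinvZ b)) := by
    refine ⟨hp, hq, hpq, fun h => hpN0 (h.trans (card_quotient_dvd_card Z)),
      fun h => hqN0 (h.trans (card_quotient_dvd_card Z)), ?_, hpow a p hapC, hpow b q hbqC⟩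
    refine MulEquiv.ext fun x => ?_
    obtain ⟨n, rfl⟩ := QuotientGroup.mk_surjective x
    rw [MulAut.mul_apply, MulAut.mul_apply, quo_mk, quo_mk, quo_mk, quo_mk, ← MulAut.mul_apply, ← MulAut.mul_apply,
      ← map_mul, ← map_mul, hab]
  have hWC : ∀ x ∈ W, x ∈ C → x = 1 := by
    have h1 : W ⊓ C = ⊥ := by
      apply eq_bot_of_ab hmin hna inf_le_left
      · intro w hw x hx
        exact mem_inf.2 ⟨hWn.conj_mem _ (mem_inf.1 hx).1 w, hCn.conj_mem _ (mem_inf.1 hx).2 w⟩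
      · intro x hx y hy
        exact (hmC y).1 (mem_inf.1 hy).2 x (mem_inf.1 hx).1
    intro x hx hxC
    have h2 : x ∈ W ⊓ C := mem_inf.2 ⟨hx, hxC⟩
    rwa [h1, mem_bot] at h2
  have hinj : ∀ x y : N0, (x : G) ∈ W → (y : G) ∈ W → (x : N0 ⧸ Z) = (y : N0 ⧸ Z) → x = y := by
    intro x y hx hy h
    rw [QuotientGroup.eq, hmZ] at h
    have h1 := hWC _ (mul_mem (inv_mem hx) hy) h
    exact Subtype.ext (inv_mul_eq_one.1 h1)
  obtain ⟨W', hW'⟩ : ∃ W', W' = (W.subgroupOf N0).map (QuotientGroup.mk' Z) := ⟨_, rfl⟩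
  have hmW' : ∀ x, x ∈ W' → ∃ n : N0, (n : G) ∈ W ∧ (n : N0 ⧸ Z) = x := by
    intro x hx
    rw [hW'] at hx
    obtain ⟨n, hn, rfl⟩ := hx
    exact ⟨n, mem_subgroupOf.1 hn, rfl⟩
  have hmW'' : ∀ n : N0, (n : G) ∈ W → (n : N0 ⧸ Z) ∈ W' := by
    intro n hn
    rw [hW']
    exact ⟨n, mem_subgroupOf.2 hn, rfl⟩
  have hinvW : ∀ g : G, Inv (Thr.quo (MulAut.conjNormal g : MulAut N0) Z (hinvZ g)) W' := by
    intro g
    apply Inv.of_le
    intro x hx
    obtain ⟨n, hn, rfl⟩ := hmW' x hx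
    rw [quo_mk]
    apply hmW''
    rw [MulAut.conjNormal_apply]
    exact hWn.conj_mem _ hn g
  have hW'i : INor (Thr.quo (MulAut.conjNormal a : MulAut N0) Z (hinvZ a))
      (Thr.quo (MulAut.conjNormal b : MulAut N0) Z (hinvZ b)) W' :=
    ⟨by rw [hW']; exact (inferInstance : (W.subgroupOf N0).Normal).map _ (QuotientGroup.mk'_surjective Z),
      hinvW a, hinvW b⟩
  -- the pulled back subgroup
  have hpull : ∀ A : Subgroup (N0 ⧸ Z), A.Normal → A ≤ W' →
      ∃ A0 : Subgroup G, A0 ≤ W ∧ (∀ w ∈ W, ∀ x ∈ A0, w * x * w⁻¹ ∈ A0) ∧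
        (∀ x ∈ A0, ∃ hx : x ∈ N0, ((⟨x, hx⟩ : N0) : N0 ⧸ Z) ∈ A) ∧ (A0 = ⊥ → A = ⊥) := by
    intro A hA hAW
    refine ⟨((A.comap (QuotientGroup.mk' Z)) ⊓ W.subgroupOf N0).map N0.subtype, ?_, ?_, ?_, ?_⟩
    · rintro _ ⟨n, hn, rfl⟩
      exact mem_subgroupOf.1 (mem_inf.1 hn).2
    · rintro w hw _ ⟨n, hn, rfl⟩
      refine ⟨⟨w, hWN0 hw⟩ * n * ⟨w, hWN0 hw⟩⁻¹, mem_inf.2 ⟨?_, ?_⟩, rfl⟩
      · exact hA.conj_mem _ (mem_inf.1 hn).1 ((⟨w, hWN0 hw⟩ : N0) : N0 ⧸ Z)
      · exact mem_subgroupOf.2 (hWn.conj_mem _ (mem_subgroupOf.1 (mem_inf.1 hn).2) w)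
    · rintro _ ⟨n, hn, rfl⟩
      exact ⟨n.2, (mem_inf.1 hn).1⟩
    · intro h
      rw [eq_bot_iff]
      intro x hx
      obtain ⟨n, hn, rfl⟩ := hmW' x (hAW hx)
      have h1 : (n : G) ∈ ((A.comap (QuotientGroup.mk' Z)) ⊓ W.subgroupOf N0).map N0.subtype :=
        ⟨n, mem_inf.2 ⟨hx, mem_subgroupOf.2 hn⟩, rfl⟩
      rw [h, mem_bot] at h1
      have h2 : n = 1 := Subtype.ext h1
      rw [h2, mem_bot]; rfl
  obtain ⟨v, hv, hva, hvb⟩ := core hFM B W' hW'i
    (by
      -- `b` moves `W'`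
      rw [hmC] at hbC
      push Not at hbC
      obtain ⟨w, hw, hbw⟩ := hbC
      refine ⟨((⟨w, hWN0 hw⟩ : N0) : N0 ⧸ Z), hmW'' _ hw, fun h => hbw ?_⟩
      rw [quo_mk] at h
      have h1 := hinj _ _ (by rw [MulAut.conjNormal_apply]; exact hWn.conj_mem _ hw b) hw h
      have h2 := congrArg Subtype.val h1
      rw [MulAut.conjNormal_apply] at h2
      exact (mul_inv_eq_iff_eq_mul.1 h2).symm)
    (by
      intro A hA hAW hAb
      obtain ⟨A0, h1, h2, h3, h4⟩ := hpull A hA.norm hAW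
      apply h4
      apply eq_bot_of_ab hmin hna h1 h2
      intro x hx y hy
      obtain ⟨hx', hxA⟩ := h3 x hx
      obtain ⟨hy', hyA⟩ := h3 y hy
      have h5 := hAb _ hxA _ hyA
      have h5' : (((⟨x, hx'⟩ * ⟨y, hy'⟩ : N0)) : N0 ⧸ Z) = ((⟨y, hy'⟩ * ⟨x, hx'⟩ : N0) : N0 ⧸ Z) := h5
      have h6 := hinj _ _ (mul_mem (h1 hx) (h1 hy)) (mul_mem (h1 hy) (h1 hx)) h5'
      exact congrArg Subtype.val h6)
    (by
      intro A hA hAW hAa
      obtain ⟨A0, h1, h2, h3, h4⟩ := hpull A hA.norm hAW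
      apply h4
      by_contra hA0
      apply haC
      rw [hmC]
      have h5 : ∀ x ∈ A0, a * x = x * a := by
        intro x hx
        obtain ⟨hx', hxA⟩ := h3 x hx
        have h6 := hAa _ hxA
        rw [quo_mk] at h6
        have h7 := hinj _ _ (by rw [MulAut.conjNormal_apply]; exact hWn.conj_mem _ (h1 hx) a) (h1 hx) h6
        have h8 := congrArg Subtype.val h7
        rw [MulAut.conjNormal_apply] at h8
        exact mul_inv_eq_iff_eq_mul.1 h8
      have h6 : normalClosure (A0 : Set G) = W := by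
        rcases hmin.2.2 _ normalClosure_normal (normalClosure_le_normal h1) with h | h
        · exfalso
          apply hA0
          rw [eq_bot_iff, ← h]
          exact fun x hx => subset_normalClosure hx
        · exact h
      have h7 : W ≤ centralizer ({a} : Set G) := by
        rw [← h6, normalClosure, closure_le]
        intro z hz
        obtain ⟨x, hx, hxz⟩ := Group.mem_conjugatesOfSet_iff.1 hz
        obtain ⟨g, rfl⟩ := isConj_iff.1 hxz
        obtain ⟨c, hc, d, hd, rfl⟩ := hdec P g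
        show _ ∈ centralizer ({a} : Set G)
        rw [mem_centralizer_singleton_iff]
        have h8 := h5 _ (h2 d hd x hx)
        have h9 := mem_CP.1 hc a haP
        have h10 : a * c⁻¹ = c⁻¹ * a := by
          rw [eq_inv_mul_iff_mul_eq, ← mul_assoc, ← h9, mul_inv_cancel_right]
        calc c * d * x * (c * d)⁻¹ * a = c * (d * x * d⁻¹) * (c⁻¹ * a) := by group
          _ = c * (d * x * d⁻¹) * (a * c⁻¹) := by rw [h10]
          _ = c * ((d * x * d⁻¹) * a) * c⁻¹ := by group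
          _ = c * (a * (d * x * d⁻¹)) * c⁻¹ := by rw [h8]
          _ = (c * a) * (d * x * d⁻¹) * c⁻¹ := by group
          _ = (a * c) * (d * x * d⁻¹) * c⁻¹ := by rw [h9]
          _ = a * (c * d * x * (c * d)⁻¹) := by group
      intro v hv
      exact mem_centralizer_singleton_iff.1 (h7 hv))
  obtain ⟨w, hw, rfl⟩ := hmW' v hv
  rcases hcov w hw with h | h
  · obtain ⟨d, hd, h1⟩ := (hRFp P _).1 h
    apply hva
    apply Fxd.quo
    apply fxd_of_conj_fix (g := (⟨d⁻¹, inv_mem (hWN0 hd)⟩ : N0))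
    rw [mem_fix]
    apply Subtype.ext
    rw [MulAut.conjNormal_apply]
    show a * (d⁻¹ * w * d⁻¹⁻¹) * a⁻¹ = d⁻¹ * w * d⁻¹⁻¹
    have h2 := mem_CP.1 h1 a haP
    rw [inv_inv, h2, mul_inv_cancel_right]
  · have hwN : (w : G) ∈ N := hDN hw
    have h1 : RF q (⟨w, hwN⟩ : N) := fun h2 => h (h2.trans (H531.ClassIndex.normal_dvd N ⟨w, hwN⟩))
    have hbq' : PEl q (⟨b, hbN⟩ : N) := by
      obtain ⟨k, hk⟩ := hbq
      exact ⟨k, Subtype.ext hk⟩
    obtain ⟨Q, hQ⟩ := hbq'.exists_sylow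
    obtain ⟨d, hd, h2⟩ := (hTN.RF_iff hq Q).1 h1
    have hdE : (d : G) ∈ E := by rw [hE]; exact ⟨d, hd, rfl⟩
    apply hvb
    apply Fxd.quo
    apply fxd_of_conj_fix (g := (⟨(d : G)⁻¹, inv_mem (hEN0 hdE)⟩ : N0))
    rw [mem_fix]
    apply Subtype.ext
    rw [MulAut.conjNormal_apply]
    show b * ((d : G)⁻¹ * w * (d : G)⁻¹⁻¹) * b⁻¹ = (d : G)⁻¹ * w * (d : G)⁻¹⁻¹
    have h3 := congrArg Subtype.val (mem_CP.1 h2 _ hQ)
    have h4 : b * ((d : G)⁻¹ * w * d) = (d : G)⁻¹ * w * d * b := h3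
    rw [inv_inv, h4, mul_inv_cancel_right]

end Cfsg.Agent.H532.NA
end

-- part: H532/NABox
section
set_option linter.all false

/-!
# `BoxNA`
-/

set_option autoImplicit false

namespace Cfsg.Agent.H532.NA

open Cfsg.Agent.H544.CS

universe u

theorem boxNA
    (hFM : ∀ (K : Type u) [Group K] [Finite K] [IsSimpleGroup K], ¬ IsMulCommutative K → Cfsg.Agent.H531.FM K) :
    BoxNA.{u} :=
  fun _ _ _ _ _ hp hq hpq hTA hna hmin N _ hDN hTN hcov y hy hyq =>
    na hFM hp hq hpq hTA hna hmin N hDN hTN hcov y hy hyq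

end Cfsg.Agent.H532.NA
end

-- part: H529/ThmG
section
prune_inst 0xf01067047422000000000080030024202000009000200000a0400000080981008001090002000000802022802004002003100100420000000a000000000401200001000090180c00100000002000000000000000000000000000000000000000000000000
set_option linter.all false
open scoped Cfsg.Agent.FastGrp

/-!
# Theorem G (helper529, for helper544, S4308)

`L ≤ GL(a, t)` normalised, but not centralised, by a coprime element `s` of prime order `q` with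
`|V| - 1 = |L : C_L(s)| (|C_V(s)| - 1)`. Then `L` has a normal subgroup of primitive prime order `l` containing all
elements of order `l` of `L`.
-/

set_option autoImplicit false
set_option linter.unusedSectionVars false
set_option linter.style.haveILetI false

namespace Cfsg.Agent.H529.ThmG

open Subgroup Cfsg Cfsg.Agent.H746.PrimElem Cfsg.Agent.H532.Thr Cfsg.Agent.H177.ThrNum Cfsg.Agent.H529.BlinA

/-- conjugation by a normalising element -/
def cj {X : Type*} [Group X] (L : Subgroup X) (s : X) (hn : ∀ g, g ∈ L ↔ s * g * s⁻¹ ∈ L) : MulAut L where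
  toFun g := ⟨s * g * s⁻¹, (hn g).1 g.2⟩
  invFun g := ⟨s⁻¹ * g * s, (hn _).2 (by
    have : s * (s⁻¹ * (g : X) * s) * s⁻¹ = g := by group
    rw [this]; exact g.2)⟩
  left_inv g := Subtype.ext (by show s⁻¹ * (s * (g : X) * s⁻¹) * s = g; group)
  right_inv g := Subtype.ext (by show s * (s⁻¹ * (g : X) * s) * s⁻¹ = g; group)
  map_mul' g h := Subtype.ext (by
    show s * ((g : X) * h) * s⁻¹ = s * g * s⁻¹ * (s * h * s⁻¹)
    group)

theorem cj_coe {X : Type*} [Group X] (L : Subgroup X) (s : X) (hn : ∀ g, g ∈ L ↔ s * g * s⁻¹ ∈ L) (g : L) :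
    ((cj L s hn g : L) : X) = s * g * s⁻¹ := rfl

theorem cj_pow {X : Type*} [Group X] (L : Subgroup X) (s : X) (hn : ∀ g, g ∈ L ↔ s * g * s⁻¹ ∈ L) (k : ℕ) (g : L) :
    ((((cj L s hn) ^ k) g : L) : X) = s ^ k * g * (s ^ k)⁻¹ := by
  induction k generalizing g with
  | zero => simp
  | succ k ih =>
    rw [pow_succ, MulAut.mul_apply, ih, cj_coe, pow_succ]
    group

theorem cj_pow_eq_one {X : Type*} [Group X] (L : Subgroup X) (s : X) (hn : ∀ g, g ∈ L ↔ s * g * s⁻¹ ∈ L) {k : ℕ}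
    (hs : s ^ k = 1) : (cj L s hn) ^ k = 1 := by
  ext g
  rw [cj_pow, hs]
  simp

theorem fix_cj {X : Type*} [Group X] (L : Subgroup X) (s : X) (hn : ∀ g, g ∈ L ↔ s * g * s⁻¹ ∈ L) :
    fix (cj L s hn) = (centralizer {s}).subgroupOf L := by
  ext g
  rw [mem_fix, mem_subgroupOf, mem_centralizer_singleton_iff, Subtype.ext_iff, cj_coe, mul_inv_eq_iff_eq_mul]
  exact eq_comm

theorem mem_iff_of_conj {X : Type*} [Group X] [Finite X] {L : Subgroup X} {s : X} (h : ∀ k ∈ L, s * k * s⁻¹ ∈ L) (g : X) :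
    g ∈ L ↔ s * g * s⁻¹ ∈ L := mem_normalizer_iff.1 (mem_normalizer_of_conj h) g

/-- **Theorem G** -/
theorem thmG {t a q : ℕ} [Fact t.Prime] (hq : q.Prime) {V : Type*} [AddCommGroup V] [Module (ZMod t) V] [Finite V]
    (hV : Nat.card V = t ^ a) (L : Subgroup (V ≃ₗ[ZMod t] V)) (s : V ≃ₗ[ZMod t] V) (hs : s ^ q = 1)
    (hn : ∀ g ∈ L, s * g * s⁻¹ ∈ L) (hqL : ¬ q ∣ Nat.card L) (hqt : q ≠ t)
    (S1 : Nat.card V - 1 = (centralizer {s}).relIndex L * (Nat.card {v : V // s v = v} - 1))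
    (hne : ∃ g ∈ L, s * g ≠ g * s)
    (hF : (∀ f : ℕ, f.Prime → f ∣ (centralizer {s}).relIndex L → q ∣ f - 1) →
      Group.IsSolvable ↥(closure {x | ∃ l ∈ L, x = s * l * s⁻¹ * l⁻¹})) :
    ∃ (l : ℕ) (x : V ≃ₗ[ZMod t] V), Prim t a l x ∧ x ∈ L ∧ s * x * s⁻¹ ∈ zpowers x ∧ s * x ≠ x * s ∧
      (∃ v : V, v ≠ 0 ∧ s v = v) ∧ (∀ g ∈ L, g * x * g⁻¹ ∈ zpowers x) ∧ ∀ y ∈ L, y ^ l = 1 → y ∈ zpowers x := by
  haveI : Finite (V ≃ₗ[ZMod t] V) := DFunLike.finite _
  haveI : Fact q.Prime := ⟨hq⟩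
  have ht : t.Prime := Fact.out
  let S : Submodule (ZMod t) V := LinearMap.eqLocus (s : V →ₗ[ZMod t] V) LinearMap.id
  have hSc : Nat.card {v : V // s v = v} = t ^ Module.finrank (ZMod t) S := card_submodule S
  have hrank : Module.finrank (ZMod t) V = a := by
    have h1 := Module.natCard_eq_pow_finrank (K := ZMod t) (V := V)
    rw [hV, Nat.card_zmod] at h1
    exact (Nat.pow_right_injective ht.two_le h1).symm
  set b := Module.finrank (ZMod t) S with hb
  have hba : b ≤ a := hrank ▸ Submodule.finrank_le S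
  set n := (centralizer {s}).relIndex L with hndef
  have hnL : n ∣ Nat.card L := Subgroup.index_dvd_card _
  rw [hV, hSc] at S1
  have hb0 : b ≠ 0 := by
    intro h0
    rw [h0, pow_zero, Nat.sub_self, mul_zero] at S1
    have h1 : t ^ a = 1 := by
      have := Nat.one_le_pow a t ht.pos
      omega
    rw [h1] at hV
    haveI := (Nat.card_eq_one_iff_unique.1 hV).1
    obtain ⟨g, -, hg⟩ := hne
    apply hg
    apply LinearEquiv.ext
    intro v
    exact Subsingleton.elim _ _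
  have hbne : b ≠ a := by
    intro h0
    have h1 : S = ⊤ := Submodule.eq_top_of_finrank_eq (by rw [← hb, h0, hrank])
    have h2 : s = 1 := by
      apply LinearEquiv.ext
      intro v
      have : v ∈ S := by rw [h1]; trivial
      exact this
    obtain ⟨g, -, hg⟩ := hne
    apply hg
    rw [h2, one_mul, mul_one]
  have hblt : b < a := lt_of_le_of_ne hba hbne
  have hfix : ∃ v : V, v ≠ 0 ∧ s v = v := by
    by_contra hcon
    push Not at hcon
    apply hb0
    have h1 : S = ⊥ := by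
      rw [Submodule.eq_bot_iff]
      intro v hv
      by_contra hv0
      exact hcon v hv0 hv
    rw [hb, h1]
    exact finrank_bot _ _
  have hmem := fun g => mem_iff_of_conj (L := L) hn g
  have hfixn : (fix (cj L s hmem)).index = n := by rw [fix_cj]; rfl
  have hcop : ¬ q ∣ Nat.card L := hqL
  obtain ⟨l, hl, hln, hlt, hlp⟩ := za ht hq hqt (Nat.pos_of_ne_zero hb0) hblt S1 (fun h => hqL (h.trans hnL))
    (fun f e hf h1 h2 => pp hq (cj L s hmem) (cj_pow_eq_one L s hmem hs) hcop f e hf (by rw [hfixn]; exact h1)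
      (by rw [hfixn]; exact h2))
  have ha : 0 < a := by omega
  obtain ⟨x, hx, hxs, hxl, hxk⟩ := zsel hl ha hlt hlp hV L s hq.pos hs hn ((Nat.Prime.coprime_iff_not_dvd hq).2 hcop)
  obtain ⟨hx1, hxc⟩ := hxk 1 (by rw [pow_one]; exact hln)
  rw [pow_one] at hxc
  haveI : Fact l.Prime := ⟨hl⟩
  have hxo : orderOf x = l := orderOf_eq_prime hxl hx1
  have hP : Prim t a l x := ⟨hl, ha, hlt, hlp, hV, hxo⟩
  have hN := blinA hq hl hV ha hlt hlp L s hs hn hqL hqt (by rw [hV, hSc]; exact S1) hfix x hx hxo hxs hxc hF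
  refine ⟨l, x, hP, hx, hxs, hxc, hfix, hN, ?_⟩
  intro y hy hyl
  exact cyc hP hyl (comm_of_norm hl hyl hxo (hN y hy))

end Cfsg.Agent.H529.ThmG

private theorem dce_dd0b88b18bb8 : _root_.True := by
  try have : _root_.True := by simp only [_root_.Cfsg.Agent.H529.ThmG.cj.congr_simp]
  exact _root_.True.intro
end

-- part: H529/CsLin
section
prune_inst 0x20106404702200000000000030000420000000020000000030400000000d0001a000080032400000102000102008002003100000420000002a008a0040040000040220c090080000000000008881180c00000000000000000000000000000000000000000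
set_option linter.all false
open scoped Cfsg.Agent.FastGrp

/-!
# Linear tools for GL and BL of S4308 (helper529, for helper544)

* `exists_rep`: the conjugation action on an elementary abelian normal subgroup as a linear representation;
* `spread_lin`: the spread theorem of helper532 for a subgroup of `GL(W)`;
* `solv_lin`: solvability of `[L, s]` for a subgroup of `GL(W)`.
-/

set_option autoImplicit false
set_option linter.unusedSectionVars false
set_option linter.style.haveILetI false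

namespace Cfsg.Agent.H529.CsLin

open Subgroup Cfsg Cfsg.Agent.H746.PrimElem Cfsg.Agent.H532.Thr Cfsg.Agent.H529.BlinA Cfsg.Agent.H529.ThmG
open Cfsg.Agent.H544.CS Cfsg.Agent.H529.FSolv

universe u

theorem exists_add {G : Type u} [Group G] [Finite G] (V : Subgroup G) (hab : Ab V) :
    ∃ (W : Type u) (_ : AddCommGroup W) (_ : Finite W) (i : W → G), Function.Injective i ∧
      (∀ v, v ∈ V ↔ ∃ w, i w = v) ∧ ∀ w w', i (w + w') = i w * i w' := by
  letI cg : CommGroup V := { (inferInstance : Group V) with mul_comm := fun a b => Subtype.ext (hab a a.2 b b.2) }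
  refine ⟨Additive V, Additive.addCommGroup, inferInstanceAs (Finite V), fun w => ((w.toMul : V) : G), ?_, ?_, ?_⟩
  · intro w w' h
    exact Additive.toMul.injective (Subtype.ext h)
  · intro v
    constructor
    · intro hv
      exact ⟨Additive.ofMul ⟨v, hv⟩, rfl⟩
    · rintro ⟨w, rfl⟩
      exact w.toMul.2
  · intro w w'
    rfl

/-- the conjugation representation on an elementary abelian normal subgroup -/
theorem exists_rep {G : Type u} [Group G] [Finite G] (V : Subgroup G) [hV : V.Normal] (hab : Ab V) {r : ℕ}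
    (hr : ∀ v ∈ V, v ^ r = 1) :
    ∃ (W : Type u) (_ : AddCommGroup W) (_ : Module (ZMod r) W) (_ : Finite W) (i : W → G)
      (ρ : G →* (W ≃ₗ[ZMod r] W)), Function.Injective i ∧ (∀ v, v ∈ V ↔ ∃ w, i w = v) ∧
      (∀ w w', i (w + w') = i w * i w') ∧ ∀ (g : G) (w : W), i (ρ g w) = g * i w * g⁻¹ := by
  obtain ⟨W, _, _, i, hi, hV', hadd⟩ := exists_add V hab
  have hmem : ∀ w, i w ∈ V := fun w => (hV' _).2 ⟨w, rfl⟩
  have hzero : i 0 = 1 := by
    have h1 := hadd 0 0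
    rw [add_zero] at h1
    exact (left_eq_mul.1 h1)
  have hnsmul : ∀ (n : ℕ) (w : W), i (n • w) = i w ^ n := by
    intro n w
    induction n with
    | zero => rw [zero_smul, pow_zero, hzero]
    | succ n ih => rw [add_smul, one_smul, hadd, ih, pow_succ]
  obtain ⟨md⟩ : Nonempty (Module (ZMod r) W) := ⟨AddCommGroup.zmodModule (n := r) (by
    intro w
    apply hi
    rw [hnsmul, hr _ (hmem w), hzero])⟩
  choose c hc using fun (g : G) (w : W) => (hV' (g * i w * g⁻¹)).1 (hV.conj_mem _ (hmem w) g)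
  have hcadd : ∀ g w w', c g (w + w') = c g w + c g w' := by
    intro g w w'
    apply hi
    rw [hadd, hc, hc, hc, hadd]
    group
  let f : G → (W →+ W) := fun g => AddMonoidHom.mk' (c g) (hcadd g)
  let e : G → (W ≃ₗ[ZMod r] W) := fun g =>
    { toFun := c g
      map_add' := hcadd g
      map_smul' := fun a w => ZMod.map_smul (f g) a w
      invFun := c g⁻¹
      left_inv := fun w => by
        apply hi
        rw [hc, hc]
        group
      right_inv := fun w => by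
        apply hi
        rw [hc, hc]
        group }
  have he : ∀ (g : G) (w : W), e g w = c g w := fun _ _ => rfl
  refine ⟨W, inferInstance, md, inferInstance, i, MonoidHom.mk' e ?_, hi, hV', hadd, fun g w => hc g w⟩
  intro g h
  apply LinearEquiv.ext
  intro w
  apply hi
  rw [LinearEquiv.mul_apply, he, he, he, hc, hc, hc]
  group

/-- the spread theorem, linear form -/
theorem spread_lin {t q : ℕ} {W : Type*} [AddCommGroup W] [Module (ZMod t) W] [Finite W] (L : Subgroup (W ≃ₗ[ZMod t] W))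
    (s : W ≃ₗ[ZMod t] W) (hq : 0 < q) (hs : s ^ q = 1) (hn : ∀ g, g ∈ L ↔ s * g * s⁻¹ ∈ L)
    (hcop : q.Coprime (Nat.card L))
    (H : ∀ l ∈ L, ∀ v : W, (∀ u : W, v ≠ l u - u) → ∃ g ∈ L, ∃ u : W,
      s * (g * l * g⁻¹) = g * l * g⁻¹ * s ∧ s (g (v + (l u - u))) = g (v + (l u - u))) :
    Nat.card W - 1 = (centralizer {s}).relIndex L * (Nat.card {v : W // s v = v} - 1) ∧
      ∀ l ∈ L, ∀ v : W, v ≠ 0 → s v = v → s (l v) = l v → s * l = l * s := by
  haveI : Finite (W ≃ₗ[ZMod t] W) := DFunLike.finite _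
  letI act : MulDistribMulAction L (Multiplicative W) :=
    { smul := fun l v => Multiplicative.ofAdd ((l : W ≃ₗ[ZMod t] W) v.toAdd)
      one_smul := fun v => rfl
      mul_smul := fun l l' v => rfl
      smul_mul := fun l v v' => by
        show Multiplicative.ofAdd ((l : W ≃ₗ[ZMod t] W) (v.toAdd + v'.toAdd)) = _
        rw [map_add]
        rfl
      smul_one := fun l => by
        show Multiplicative.ofAdd ((l : W ≃ₗ[ZMod t] W) 0) = _
        rw [map_zero]
        rfl }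
  have hsm : ∀ (l : L) (v : Multiplicative W), l • v = Multiplicative.ofAdd ((l : W ≃ₗ[ZMod t] W) v.toAdd) :=
    fun _ _ => rfl
  let bV : MulAut (Multiplicative W) := AddEquiv.toMultiplicative s.toAddEquiv
  have hbV : ∀ v, bV v = Multiplicative.ofAdd (s v.toAdd) := fun _ => rfl
  let bL : MulAut L := cj L s hn
  have hbVq : bV ^ q = 1 := by
    have h1 : ∀ (k : ℕ) (v : Multiplicative W), (bV ^ k) v = Multiplicative.ofAdd ((s ^ k) v.toAdd) := by
      intro k
      induction k with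
      | zero => intro v; rfl
      | succ k ih =>
        intro v
        rw [pow_succ, pow_succ, MulAut.mul_apply, ih, hbV]
        rfl
    ext v
    rw [h1, hs]
    rfl
  have hcomp : ∀ (l : L) (v : Multiplicative W), bV (l • v) = bL l • bV v := by
    intro l v
    rw [hsm, hsm, hbV, hbV]
    show Multiplicative.ofAdd (s ((l : W ≃ₗ[ZMod t] W) v.toAdd)) =
      Multiplicative.ofAdd ((s * (l : W ≃ₗ[ZMod t] W) * s⁻¹) (s v.toAdd))
    congr 1
    show _ = s ((l : W ≃ₗ[ZMod t] W) (s⁻¹ (s v.toAdd)))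
    have : s⁻¹ (s v.toAdd) = v.toAdd := s.symm_apply_apply _
    rw [this]
  obtain ⟨h1, h2⟩ := spread (L := L) (V := Multiplicative W) (m := q) hq hcop bL (cj_pow_eq_one L s hn hs) bV hbVq hcomp
    (by
      intro l v hv
      obtain ⟨g, hg, u, h3, h4⟩ := H l l.2 v.toAdd (by
        intro u hu
        apply hv (Multiplicative.ofAdd u)
        apply Multiplicative.toAdd.injective
        rw [hu, sub_eq_add_neg]
        rfl)
      refine ⟨⟨g, hg⟩, Multiplicative.ofAdd u, ?_, ?_⟩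
      · apply Subtype.ext
        show s * (g * l * g⁻¹) * s⁻¹ = g * l * g⁻¹
        rw [h3, mul_inv_cancel_right]
      · rw [sub_eq_add_neg] at h4
        exact congrArg Multiplicative.ofAdd h4)
  refine ⟨?_, ?_⟩
  · have e1 : (fix bL).index = (centralizer {s}).relIndex L := by
      show (fix (cj L s hn)).index = _
      rw [fix_cj]; rfl
    have e2 : Nat.card (fix bV) = Nat.card {v : W // s v = v} :=
      Nat.card_congr ⟨fun v => ⟨v.1.toAdd, v.2⟩, fun v => ⟨Multiplicative.ofAdd v.1, v.2⟩, fun _ => rfl, fun _ => rfl⟩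
    rw [← e1, ← e2, ← h1]
    rfl
  · intro l hl v hv hsv hslv
    have h3 := h2 ⟨l, hl⟩ (Multiplicative.ofAdd v) hv (congrArg Multiplicative.ofAdd hsv)
      (congrArg Multiplicative.ofAdd hslv)
    have h4 : s * l * s⁻¹ = l := congrArg Subtype.val h3
    calc s * l = s * l * s⁻¹ * s := by group
      _ = l * s := by rw [h4]

/-- solvability of `[L, s]` -/
theorem solv_lin (hS : AllF.{u}) {X : Type u} [Group X] [Finite X] (L : Subgroup X) (s : X) {q : ℕ} (hq : q.Prime)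
    (hs : s ^ q = 1) (hn : ∀ g, g ∈ L ↔ s * g * s⁻¹ ∈ L) (hqL : ¬ q ∣ Nat.card L)
    (h : ∀ f : ℕ, f.Prime → f ∣ (centralizer {s}).relIndex L → q ∣ f - 1) :
    Group.IsSolvable ↥(closure {x | ∃ l ∈ L, x = s * l * s⁻¹ * l⁻¹}) := by
  have h1 := solv_com hS hq (b := cj L s hn) (cj_pow_eq_one L s hn hs) hqL (by
    intro f hf hfd
    apply h f hf
    rw [fix_cj] at hfd
    exact hfd)
  have h2 : (com (cj L s hn)).map L.subtype = closure {x | ∃ l ∈ L, x = s * l * s⁻¹ * l⁻¹} := by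
    apply le_antisymm
    · rw [com, MonoidHom.map_closure, closure_le]
      rintro _ ⟨_, ⟨l, rfl⟩, rfl⟩
      exact subset_closure ⟨l, l.2, rfl⟩
    · rw [closure_le]
      rintro _ ⟨l, hl, rfl⟩
      exact ⟨_, mem_com (cj L s hn) ⟨l, hl⟩, rfl⟩
  rw [← h2]
  haveI := h1
  exact Group.isSolvable_of_isSolvable_injective
    (f := ((com (cj L s hn)).equivMapOfInjective L.subtype L.subtype_injective).symm.toMonoidHom)
    ((com (cj L s hn)).equivMapOfInjective L.subtype L.subtype_injective).symm.injective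

end Cfsg.Agent.H529.CsLin
end

-- part: H529/IncLay
section
set_option linter.all false
open scoped Cfsg.Agent.FastGrp

/-!
# Layers (S4256, helper529)

`Lay q G N M`: `N ≤ M` normal, `N` a `q'`-group, `M / N` a `q`-group, `G / M` a `q'`-group (`q`-length at most one).
`Ker N M`: the kernel of the action of `G` on `M / N`.
-/

set_option autoImplicit false

namespace Cfsg.Agent.H529.Inc

open Subgroup Cfsg.Agent.H532.Thr Cfsg.Agent.H544.CS

universe u v

/-- a `q`-layer -/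
structure Lay (q : ℕ) (G : Type*) [Group G] (N M : Subgroup G) : Prop where
  nN : N.Normal
  nM : M.Normal
  le : N ≤ M
  cop : ¬ q ∣ Nat.card N
  pow : ∃ n, N.relIndex M = q ^ n
  idx : ¬ q ∣ M.index

/-- kernel of the action on `M / N` -/
def Ker {G : Type*} [Group G] (N M : Subgroup G) [hN : N.Normal] : Subgroup G where
  carrier := {g | ∀ m ∈ M, g * m * g⁻¹ * m⁻¹ ∈ N}
  one_mem' := fun m _ => by
    have : (1 : G) * m * 1⁻¹ * m⁻¹ = 1 := by group
    rw [this]; exact one_mem _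
  mul_mem' := by
    intro a b ha hb m hm
    have e : a * b * m * (a * b)⁻¹ * m⁻¹ = a * (b * m * b⁻¹ * m⁻¹) * a⁻¹ * (a * m * a⁻¹ * m⁻¹) := by group
    rw [e]
    exact mul_mem (hN.conj_mem _ (hb m hm) a) (ha m hm)
  inv_mem' := by
    intro a ha m hm
    have e : a⁻¹ * m * a⁻¹⁻¹ * m⁻¹ = a⁻¹ * (a * m * a⁻¹ * m⁻¹)⁻¹ * a⁻¹⁻¹ := by group
    rw [e]
    exact hN.conj_mem _ (inv_mem (ha m hm)) a⁻¹

section

variable {G : Type u} [Group G] {q r : ℕ} {N M : Subgroup G}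

instance Ker_normal [hN : N.Normal] [hM : M.Normal] : (Ker N M).Normal := by
  constructor
  intro g hg h m hm
  have h1 := hg (h⁻¹ * m * h) (by
    have := hM.conj_mem m hm h⁻¹
    rwa [inv_inv] at this)
  have h2 := hN.conj_mem _ h1 h
  have e : h * g * h⁻¹ * m * (h * g * h⁻¹)⁻¹ * m⁻¹ = h * (g * (h⁻¹ * m * h) * g⁻¹ * (h⁻¹ * m * h)⁻¹) * h⁻¹ := by group
  rw [e]
  exact h2

variable [Finite G]

theorem Lay.pel_mem (hq : q.Prime) (L : Lay q G N M) {y : G} (hy : PEl q y) : y ∈ M := by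
  haveI := L.nM
  have h1 : PEl q (y : G ⧸ M) := hy.map (QuotientGroup.mk' M)
  have h2 : ¬ q ∣ Nat.card (⊤ : Subgroup (G ⧸ M)) := by
    rw [card_top]; exact L.idx
  exact (QuotientGroup.eq_one_iff y).1 (h1.eq_one_of_mem hq h2 (mem_top _))

theorem Lay.decomp (hq : q.Prime) (L : Lay q G N M) (P : Sylow q G) {m : G} (hm : m ∈ M) :
    ∃ n ∈ N, ∃ u ∈ P, m = n * u := by
  haveI := Fact.mk hq
  haveI := L.nN
  have h1 : N ⊔ (P : Subgroup G) ≤ M := sup_le L.le fun x hx => L.pel_mem hq (PEl.of_mem hx)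
  have h2 : (N ⊔ (P : Subgroup G)).relIndex M = 1 := by
    obtain ⟨n, hn⟩ := L.pow
    have h3 : (N ⊔ (P : Subgroup G)).relIndex M ∣ q ^ n := by
      rw [← hn]; exact relIndex_dvd_of_le_left M le_sup_left
    have h4 : ¬ q ∣ (N ⊔ (P : Subgroup G)).relIndex M := by
      haveI := L.nM
      intro h
      have h5 : (N ⊔ (P : Subgroup G)).relIndex M ∣ (N ⊔ (P : Subgroup G)).index := relIndex_dvd_index_of_le h1
      exact P.not_dvd_index ((h.trans h5).trans (index_dvd_of_le le_sup_right))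
    obtain ⟨k, -, hk⟩ := (Nat.dvd_prime_pow hq).1 h3
    rcases Nat.eq_zero_or_pos k with rfl | hk0
    · rw [hk, pow_zero]
    · exact absurd (hk ▸ dvd_pow_self q hk0.ne') h4
  have h3 : m ∈ N ⊔ (P : Subgroup G) := relIndex_eq_one.1 h2 hm
  obtain ⟨n, hn, u, hu, h⟩ := mem_sup_of_normal_left.1 h3
  exact ⟨n, hn, u, hu, h.symm⟩

/-- `q`-central elements act trivially on the layer -/
theorem Lay.mem_Ker_of_RF (hq : q.Prime) (L : Lay q G N M) [N.Normal] {g : G} (h : RF q g) : g ∈ Ker N M := by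
  obtain ⟨P, hP⟩ := (RF_iff hq).1 h
  intro m hm
  obtain ⟨n, hn, u, hu, rfl⟩ := L.decomp hq P hm
  have h1 := (mem_CP.1 hP) u hu
  have e : g * (n * u) * g⁻¹ * (n * u)⁻¹ = g * n * g⁻¹ * n⁻¹ := by
    calc g * (n * u) * g⁻¹ * (n * u)⁻¹ = g * n * (u * g⁻¹) * u⁻¹ * n⁻¹ := by group
      _ = g * n * (g⁻¹ * (g * u) * g⁻¹) * u⁻¹ * n⁻¹ := by group
      _ = g * n * (g⁻¹ * (u * g) * g⁻¹) * u⁻¹ * n⁻¹ := by rw [h1]
      _ = _ := by group
  rw [e]
  exact mul_mem (L.nN.conj_mem _ hn g) (inv_mem hn)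

theorem Lay.le_Ker (hq : q.Prime) (L : Lay q G N M) [N.Normal]
    (hab : ∀ P : Sylow q G, ∀ x ∈ P, ∀ y ∈ P, x * y = y * x) : M ≤ Ker N M := by
  obtain ⟨P⟩ : Nonempty (Sylow q G) := inferInstance
  intro a ha m hm
  obtain ⟨n, hn, u, hu, rfl⟩ := L.decomp hq P hm
  obtain ⟨n', hn', u', hu', rfl⟩ := L.decomp hq P ha
  have h1 := hab P u hu u' hu'
  have e : n' * u' * (n * u) * (n' * u')⁻¹ * (n * u)⁻¹ =
      n' * (u' * n * u'⁻¹) * ((u' * u * u'⁻¹ * u⁻¹) * (u * n'⁻¹ * u⁻¹)) * n⁻¹ := by group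
  have e2 : u' * u * u'⁻¹ * u⁻¹ = 1 := by rw [← h1]; group
  rw [e, e2, one_mul]
  exact mul_mem (mul_mem (mul_mem hn' (L.nN.conj_mem _ hn u')) (L.nN.conj_mem _ (inv_mem hn') u)) (inv_mem hn)

/-- layers of quotients -/
theorem Lay.quo (hq : q.Prime) (L : Lay q G N M) (W : Subgroup G) [W.Normal] :
    Lay q (G ⧸ W) (N.map (QuotientGroup.mk' W)) (M.map (QuotientGroup.mk' W)) := by
  have hs := QuotientGroup.mk'_surjective W
  refine ⟨L.nN.map _ hs, L.nM.map _ hs, map_mono L.le, fun h => L.cop (h.trans (card_map_dvd N _)), ?_,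
    fun h => L.idx (h.trans (index_map_dvd _ hs))⟩
  have h1 : (N.map (QuotientGroup.mk' W)).relIndex (M.map (QuotientGroup.mk' W)) ∣ N.relIndex M := by
    have h2 : (N.map (QuotientGroup.mk' W)).relIndex (M.map (QuotientGroup.mk' W)) =
        ((N ⊔ W) ⊓ (M ⊔ W)).relIndex (M ⊔ W) := by
      rw [relIndex_map_map, QuotientGroup.ker_mk', inf_eq_left.2 (sup_le_sup_right L.le W)]
    rw [h2, inf_relIndex_right]
    haveI := L.nN
    haveI := L.nM
    have h3 : (N ⊔ W).relIndex (M ⊔ W) = (N ⊔ W).relIndex M := by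
      have h4 : M ⊔ W = M ⊔ (N ⊔ W) := by
        rw [← sup_assoc, sup_eq_left.2 L.le]
      rw [h4, relIndex_sup_right]
    rw [h3]
    exact relIndex_dvd_of_le_left M le_sup_left
  obtain ⟨n, hn⟩ := L.pow
  rw [hn] at h1
  obtain ⟨m, -, hm⟩ := (Nat.dvd_prime_pow hq).1 h1
  exact ⟨m, hm⟩

end

end Cfsg.Agent.H529.Inc
end

-- part: H529/IncA
section
set_option linter.all false
open scoped Cfsg.Agent.FastGrp

/-!
# Theorem A of S4256 (helper529): `G / Ker` is of type A for every incomplete vertex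

`p`: type A, nonadjacent to `q`; `(N, M)` a `q`-layer. Elements outside `Ker N M` are `p`-central; if `x` is not `p`-central
then `C(x) ≤ Ker N M`. If `r` is another prime with a friend `t` of type A, then `G / Ker N M` is of type A for `r`.
-/

set_option autoImplicit false
set_option linter.unusedSectionVars false

namespace Cfsg.Agent.H529.Inc

open Subgroup Cfsg.Agent.H532.Thr Cfsg.Agent.H544.CS

universe u v

variable {G : Type u} [Group G] [Finite G] {p q r t : ℕ} {N M N' M' : Subgroup G}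

/-- elements outside the kernel are `p`-central -/
theorem Lay.rf_of_not_mem (hq : q.Prime) (L : Lay q G N M) [N.Normal] (hNA : NAdj p q G) {x : G}
    (hx : x ∉ Ker N M) : RF p x :=
  (hNA x).resolve_right fun h => hx (L.mem_Ker_of_RF hq h)

theorem Lay.DD_le (hp : p.Prime) (hq : q.Prime) (hTp : TA p G) (L : Lay q G N M) [N.Normal] (hNA : NAdj p q G) :
    DD p G ≤ Ker N M := by
  haveI := L.nM
  exact hTp.DD_le_of_compl hp _ fun x hx => L.rf_of_not_mem hq hNA hx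

/-- **(F3)** elements that are not `p`-central have their centraliser in the kernel -/
theorem Lay.cent_le (hp : p.Prime) (hq : q.Prime) (hTp : TA p G) (L : Lay q G N M) [N.Normal] (hNA : NAdj p q G)
    {g : G} (hg : ¬ RF p g) {y : G} (hy : y * g = g * y) : y ∈ Ker N M := by
  haveI := L.nM
  by_contra hyK
  obtain ⟨P, hP⟩ := (RF_iff hp).1 (L.rf_of_not_mem hq hNA hyK)
  apply hg
  refine (RF_iff hp).2 ⟨P, hTp.coset hp P hP (fun x hx => ?_) hy.symm⟩
  apply L.rf_of_not_mem hq hNA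
  intro hxK
  apply hyK
  have h1 := mul_mem hxK (inv_mem (L.DD_le hp hq hTp hNA hx))
  have e : x * (y⁻¹ * x)⁻¹ = y := by group
  rwa [e] at h1

/-- if some `r`-element lies outside the kernel then elements that are not `p`-central are not `r`-central -/
theorem Lay.not_rf (hp : p.Prime) (hq : q.Prime) (hr : r.Prime) (hTp : TA p G) (L : Lay q G N M) [N.Normal]
    (hNA : NAdj p q G) {z : G} (hz : PEl r z) (hzK : z ∉ Ker N M) {g : G} (hg : ¬ RF p g) : ¬ RF r g := by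
  haveI := L.nM
  haveI := Fact.mk hr
  intro h
  obtain ⟨R, hR⟩ := (RF_iff hr).1 h
  obtain ⟨R', hR'⟩ := hz.exists_sylow
  obtain ⟨c, rfl⟩ := MulAction.exists_smul_eq G R R'
  have h1 := mem_smul_sylow.1 hR'
  have h2 := L.cent_le hp hq hTp hNA hg ((mem_CP.1 hR) _ h1)
  apply hzK
  have h3 := (Ker_normal (N := N) (M := M)).conj_mem _ h2 c
  have e : c * (c⁻¹ * z * c) * c⁻¹ = z := by group
  rwa [e] at h3

/-- the step from helper544's `stepZ` -/
theorem fr_false (bNA : BoxNA.{u}) (bBL : BoxBL.{u}) (hp : p.Prime) (ht : t.Prime) (hpt : p ≠ t) (hTp : TA p G)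
    (hTt : TA t G) (hNA : NAdj p t G) (hF : Fr p t G) (C : Subgroup G) [C.Normal] (hDC : DD p G ≤ C)
    (hC : ∀ x, x ∉ C → RF t x) {z : G} (hz : z ∉ C) (hzt : ¬ t ∣ orderOf z) : False := by
  obtain ⟨R, hR, y, d, hy, hd, hyd⟩ := hF
  haveI := hR.nor
  have hab := Fr.ab bNA hp ht hpt hTp hTt hNA R hR hy hd hyd
  have hs := QuotientGroup.mk'_surjective R
  have hRC : R ≤ C := hR.le.trans hDC
  haveI : (C.map (QuotientGroup.mk' R)).Normal := Subgroup.Normal.map inferInstance _ hs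
  have hmem : ∀ x : G, (x : G ⧸ R) ∈ C.map (QuotientGroup.mk' R) → x ∈ C := by
    rintro x ⟨c, hc, h⟩
    have h1 : (c : G ⧸ R) = (x : G ⧸ R) := h
    have h2 : c⁻¹ * x ∈ R := QuotientGroup.eq.1 h1
    have h3 := mul_mem hc (hRC h2)
    have e : c * (c⁻¹ * x) = x := by group
    rwa [e] at h3
  refine stepZ bBL hp ht hpt (hTp.quo hp R) (hTt.quo ht R) hab (hR.minN hp) (fun x hx => (hNA.quo R x).resolve_left hx)
    (y₀ := (y : G ⧸ R)) (v₀ := (d : G ⧸ R)) (hy.map (QuotientGroup.mk' R)) (mk_mem_DD hp R hd) ?_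
    (C.map (QuotientGroup.mk' R)) ?_ (z := (z : G ⧸ R)) (fun h => hz (hmem z h)) ?_
  · intro h
    apply hyd
    rw [← QuotientGroup.eq_one_iff]
    simp only [QuotientGroup.mk_mul, QuotientGroup.mk_inv]
    rw [h]; group
  · intro x hx
    obtain ⟨x, rfl⟩ := QuotientGroup.mk'_surjective R x
    exact rf_mk (hC x fun h => hx ⟨x, h, rfl⟩) R
  · intro h
    exact hzt (h.trans (orderOf_map_dvd (QuotientGroup.mk' R) z))

/-- type A from a central layer -/
theorem ta_of_comm (hr : r.Prime) (L : Lay r G N' M') (h : ∀ g : G, ∀ m ∈ M', g * m * g⁻¹ * m⁻¹ ∈ N') : TA r G := by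
  obtain ⟨R⟩ : Nonempty (Sylow r G) := inferInstance
  refine TA.of_norm hr R fun g hg => ?_
  rw [mem_centralizer_iff]
  intro x hx
  have hxr : PEl r x := PEl.of_mem hx
  have h1 := h g x (L.pel_mem hr hxr)
  have h2 : g * x * g⁻¹ ∈ R := (mem_normalizer_iff.1 hg x).1 hx
  have h3 : g * x * g⁻¹ * x⁻¹ = 1 := PEl.eq_one_of_mem hr (PEl.of_mem (P := R) (mul_mem h2 (inv_mem hx))) L.cop h1
  have h4 : g * x * g⁻¹ = x := mul_inv_eq_one.1 h3
  calc x * g = g * x * g⁻¹ * g := by rw [h4]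
    _ = g * x := by group

/-- **Theorem A** -/
theorem ta_quo (bNA : BoxNA.{u}) (bBL : BoxBL.{u}) (hp : p.Prime) (hq : q.Prime) (hr : r.Prime) (ht : t.Prime)
    (hTp : TA p G) (hNA : NAdj p q G) (hvp : ∃ x : G, ¬ RF p x) (L : Lay q G N M) [N.Normal] [M.Normal]
    (hrt : r ≠ t) (hrp : r ≠ p) (hTt : TA t G) (hNA' : NAdj t r G) (hvt : ∃ x : G, ¬ RF t x) (L' : Lay r G N' M') :
    TA r (G ⧸ Ker N M) := by
  haveI := L'.nN
  haveI := L'.nM
  by_cases hrK : ∀ z : G, PEl r z → z ∈ Ker N M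
  · -- an `r'`-group
    have h1 : ∀ z : G ⧸ Ker N M, PEl r z → z = 1 := by
      intro z hz
      obtain ⟨x, hx, rfl⟩ := hz.lift_mk hr (Ker N M)
      exact (QuotientGroup.eq_one_iff x).2 (hrK x hx)
    obtain ⟨R⟩ : Nonempty (Sylow r (G ⧸ Ker N M)) := inferInstance
    refine TA.of_norm hr R fun g _ => ?_
    rw [mem_centralizer_iff]
    intro x hx
    rw [h1 x (PEl.of_mem hx), one_mul, mul_one]
  push Not at hrK
  obtain ⟨z₀, hz₀, hz₀K⟩ := hrK
  have hnot : ∀ g : G, ¬ RF p g → RF t g := fun g hg =>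
    (hNA' g).resolve_right (L.not_rf hp hq hr hTp hNA hz₀ hz₀K hg)
  obtain ⟨g₀, hg₀⟩ := hvp
  have hpt : p ≠ t := by
    rintro rfl
    exact hg₀ (hnot g₀ hg₀)
  have hNApt : NAdj p t G := fun g => by
    by_cases h : RF p g
    · exact Or.inl h
    · exact Or.inr (hnot g h)
  -- `t`-elements lie in the kernel
  have htK : ∀ z : G, PEl t z → z ∈ Ker N M := by
    intro z hz
    by_contra hzK
    exact L.not_rf hp hq ht hTp hNA hz hzK hg₀ (hnot g₀ hg₀)
  have hDt : DD t G ≤ Ker N M := by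
    refine Cfsg.Agent.H544.CS.DD_le fun y g hy => ?_
    have h1 := (Ker_normal (N := N) (M := M)).conj_mem _ (inv_mem (htK y hy)) g
    have e : y * g * y⁻¹ * g⁻¹ = y * (g * y⁻¹ * g⁻¹) := by group
    rw [e]
    exact mul_mem (htK y hy) h1
  by_contra hTA
  have hs := QuotientGroup.mk'_surjective (Ker N M)
  have L₁ := L'.quo hr (Ker N M)
  -- the kernel `C'` of the `r`-layer of the quotient
  haveI := L₁.nN
  haveI := L₁.nM
  let C' : Subgroup G := (Ker (N'.map (QuotientGroup.mk' (Ker N M))) (M'.map (QuotientGroup.mk' (Ker N M)))).comap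
    (QuotientGroup.mk' (Ker N M))
  have hKC : Ker N M ≤ C' := by
    intro x hx
    show (x : G ⧸ Ker N M) ∈ Ker (N'.map (QuotientGroup.mk' (Ker N M))) (M'.map (QuotientGroup.mk' (Ker N M)))
    rw [(QuotientGroup.eq_one_iff x).2 hx]
    exact one_mem _
  have hC' : ∀ x, x ∉ C' → RF t x := by
    intro x hx
    refine (hNA' x).resolve_right fun h => hx ?_
    exact L₁.mem_Ker_of_RF hr (rf_mk h (Ker N M))
  have hz : ∃ z : G, z ∉ C' := by
    by_contra hcon
    push Not at hcon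
    apply hTA
    refine ta_of_comm hr L₁ fun g m hm => ?_
    obtain ⟨g, rfl⟩ := hs g
    exact hcon g m hm
  obtain ⟨z, hz⟩ := hz
  obtain ⟨m, n, h1, h2, h3⟩ := exists_parts ht z
  have hzn : z ^ n ∉ C' := by
    intro h
    apply hz
    rw [h1]
    exact mul_mem (hKC (htK _ h2)) h
  rcases Fr_or hp ht hTp hTt hNApt (ne_bot_of_vertex hp ⟨g₀, hg₀⟩) (ne_bot_of_vertex ht hvt) with hF | hF
  · exact fr_false bNA bBL hp ht hpt hTp hTt hNApt hF C' ((L.DD_le hp hq hTp hNA).trans hKC) hC' hzn h3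
  · refine fr_false bNA bBL ht hp hpt.symm hTt hTp hNApt.symm hF (Ker N M) hDt
      (fun x hx => L.rf_of_not_mem hq hNA hx) hz₀K ?_
    intro h
    obtain ⟨k, hk⟩ := hz₀
    have h5 := h.trans (orderOf_dvd_of_pow_eq_one hk)
    exact hrp ((Nat.prime_dvd_prime_iff_eq hp hr).1 (hp.dvd_of_dvd_pow h5)).symm

end Cfsg.Agent.H529.Inc

private theorem dce_a92c328717b3 : _root_.True := by
  try have : _root_.True := by simp only [_root_.Cfsg.Agent.H529.Inc.Ker.congr_simp]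
  exact _root_.True.intro
end
end
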